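import Cfsg.Agent.Lib.LocalEvenB.McLUnitary.Lines
import Cfsg.Agent.Lib.Recog.BitPerm.Basic
import Cfsg.Agent.Lib.Recog.McLRankThree.Data

/-!
# The four generators on the 112 lines, sets of lines as bit masks, orbit trees
-/

set_option autoImplicit false
set_option maxRecDepth 100000

namespace CfsgLib.Recog.McLRankThree

open MulAction
open scoped Pointwise
open CfsgLib.LocalEvenB.McLUnitary (tab)

/-- Seven bits of a packed permutation. -/
def pget (P x : ℕ) : ℕ := (P >>> (7 * x)) &&& 127

/-- A generator on numbers. -/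
def genN (k x : ℕ) : ℕ := pget (genCode.getD (k % 4) 0) x

/-- A word on numbers. -/
def wordN : List ℕ → ℕ → ℕ
  | [], x => x
  | k :: w, x => genN k (wordN w x)

theorem genN_tab : ∀ (k : Fin 4) (a : Fin 112), genN k.val a.val = (tab k a).val := by
  decide +kernel

theorem tab_cube : ∀ (k : Fin 4) (a : Fin 112), tab k (tab k (tab k a)) = a := by
  decide +kernel

/-- A generator. -/
def genP (k : ℕ) : Equiv.Perm (Fin 112) where
  toFun := tab ⟨k % 4, Nat.mod_lt _ (by norm_num)⟩
  invFun a := tab ⟨k % 4, Nat.mod_lt _ (by norm_num)⟩ (tab ⟨k % 4, Nat.mod_lt _ (by norm_num)⟩ a)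
  left_inv a := tab_cube _ a
  right_inv a := tab_cube _ a

theorem genP_val (k : ℕ) (a : Fin 112) : (genP k a).val = genN k a.val := by
  have h := genN_tab ⟨k % 4, Nat.mod_lt _ (by norm_num)⟩ a
  simp only [genN, Nat.mod_mod] at h
  exact h.symm

/-- A word as a permutation. -/
def wordP : List ℕ → Equiv.Perm (Fin 112)
  | [] => 1
  | k :: w => genP k * wordP w

theorem wordP_val : ∀ (w : List ℕ) (a : Fin 112), (wordP w a).val = wordN w a.val
  | [], a => rfl
  | k :: w, a => by
    show (genP k (wordP w a)).val = genN k (wordN w a.val)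
    rw [genP_val, wordP_val w a]

/-- The group on the lines. -/
def lineGroup : Subgroup (Equiv.Perm (Fin 112)) := Subgroup.closure (Set.range genP)

theorem genP_mem (k : ℕ) : genP k ∈ lineGroup := Subgroup.subset_closure ⟨k, rfl⟩

theorem wordP_mem : ∀ w : List ℕ, wordP w ∈ lineGroup
  | [] => one_mem _
  | k :: w => mul_mem (genP_mem k) (wordP_mem w)

/-- The set of lines of a mask. -/
def ofMask (m : ℕ) : Finset (Fin 112) := Finset.univ.filter fun i => m.testBit i.val

theorem mem_ofMask {m : ℕ} {i : Fin 112} : i ∈ ofMask m ↔ m.testBit i.val = true := by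
  simp [ofMask]

open CfsgLib.Recog.BitPerm in
/-- The networks of the generators. -/
noncomputable def nets (k : ℕ) : List Stage := genNets.getD (k % 4) []

open CfsgLib.Recog.BitPerm in
theorem nets_ok : (genNets.all fun L => L.all (stageOK 7)) = true ∧
    ((List.range 4).all fun k => (List.range 112).all fun x => mapsOK nets [k] (genN k x) x) = true := by
  decide +kernel

open CfsgLib.Recog.BitPerm in
theorem nets_valid : Valid 7 nets where
  ok x st hst := by
    have h := List.all_eq_true.1 nets_ok.1
    rcases Nat.lt_or_ge (x % 4) genNets.length with hx | hx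
    · rw [nets, List.getD_eq_getElem _ _ hx] at hst
      exact List.all_eq_true.1 (h _ (List.getElem_mem hx)) st hst
    · rw [nets, List.getD_eq_default _ _ hx] at hst
      exact absurd hst List.not_mem_nil

open CfsgLib.Recog.BitPerm in
theorem run_gen (k : ℕ) (X : ℕ) (a : Fin 112) :
    (run (nets k) X).testBit (genN k a.val) = X.testBit a.val := by
  have h := List.all_eq_true.1 (List.all_eq_true.1 nets_ok.2 (k % 4) (List.mem_range.2 (Nat.mod_lt _ (by norm_num))))
    a.val (List.mem_range.2 a.isLt)
  have h1 := wordPerm_maps nets_valid h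
  rw [testBit_run (nets_valid.ok k)]
  simp only [wordPerm, List.map_cons, List.map_nil, List.prod_cons, List.prod_nil, mul_one, nets, genN,
    Nat.mod_mod] at h1
  rw [show nets k = genNets.getD (k % 4) [] from rfl]
  exact congrArg X.testBit h1

open CfsgLib.Recog.BitPerm in
/-- The image of a mask under a word. -/
noncomputable def runM (w : List ℕ) (X : ℕ) : ℕ :=
  List.rec (motive := fun _ => ℕ → ℕ) (fun X => X) (fun k _ ih X => run (nets k) (ih X)) w X

theorem testBit_runM : ∀ (w : List ℕ) (X : ℕ) (a : Fin 112),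
    (runM w X).testBit (wordN w a.val) = X.testBit a.val
  | [], X, a => rfl
  | k :: w, X, a => by
    show (CfsgLib.Recog.BitPerm.run (nets k) (runM w X)).testBit (genN k (wordN w a.val)) = _
    rw [← wordP_val, run_gen, wordP_val, testBit_runM w]

/-- `w` carries the lines of `m` to those of `m'`. -/
noncomputable def imgOK (w : List ℕ) (m m' : ℕ) : Bool := Nat.beq (runM w m) m'

theorem smul_ofMask {w : List ℕ} {m m' : ℕ} (h : imgOK w m m' = true) :
    wordP w • ofMask m = ofMask m' := by
  rw [← Nat.eq_of_beq_eq_true h]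
  ext i
  rw [← Finset.inv_smul_mem_iff, mem_ofMask, mem_ofMask, Equiv.Perm.smul_def]
  have h1 := testBit_runM w m ((wordP w)⁻¹ i)
  rw [← wordP_val, ← Equiv.Perm.mul_apply, mul_inv_cancel, Equiv.Perm.one_apply] at h1
  rw [h1]

/-- An orbit tree: next table for `m` generators and, for every later entry, a parent. -/
def treeOK (step : ℕ → ℕ → ℕ → Bool) (m n : ℕ) (nxt par : List ℕ) : Bool :=
  ((List.range n).all fun i => (List.range m).all fun k =>
      decide (nxt.getD (i * m + k) 0 < n) && step i k (nxt.getD (i * m + k) 0)) &&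
    (List.range n).all fun j => decide (j = 0) ||
      (decide (par.getD j 0 / m < j) && decide (nxt.getD (par.getD j 0) 0 = j))

theorem orbit_of_tree {α : Type*} [MulAction (Equiv.Perm (Fin 112)) α] (gs : List (Equiv.Perm (Fin 112)))
    (n : ℕ) (f : ℕ → α) (step : ℕ → ℕ → ℕ → Bool) (nxt par : List ℕ)
    (hstep : ∀ i k j, k < gs.length → i < n → j < n → step i k j = true → gs.getD k 1 • f i = f j)
    (hm : 0 < gs.length) (h : treeOK step gs.length n nxt par = true) :
    (∀ j < n, ∃ g ∈ Subgroup.closure {p | p ∈ gs}, g • f 0 = f j) ∧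
      ∀ g ∈ Subgroup.closure {p | p ∈ gs}, ∀ i < n, ∃ j < n, g • f i = f j := by
  simp only [treeOK, Bool.and_eq_true, Bool.or_eq_true, List.all_eq_true, List.mem_range,
    decide_eq_true_eq] at h
  obtain ⟨hnext, hpar⟩ := h
  constructor
  · intro j
    induction j using Nat.strong_induction_on with
    | _ j ih =>
      intro hj
      rcases Nat.eq_zero_or_pos j with rfl | hpos
      · exact ⟨1, one_mem _, one_smul _ _⟩
      obtain ⟨h1, h2⟩ := (hpar j hj).resolve_left (by omega)
      set i := par.getD j 0 / gs.length with hi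
      set k := par.getD j 0 % gs.length with hk
      have hk' : k < gs.length := Nat.mod_lt _ hm
      have hik : i * gs.length + k = par.getD j 0 := by
        rw [hi, hk, Nat.mul_comm]; exact Nat.div_add_mod _ _
      obtain ⟨hlt, hs⟩ := hnext i (by omega) k hk'
      rw [hik, h2] at hs
      obtain ⟨g, hg, he⟩ := ih i h1 (by omega)
      refine ⟨gs.getD k 1 * g, mul_mem (Subgroup.subset_closure ?_) hg, ?_⟩
      · rw [List.getD_eq_getElem _ _ hk']; exact List.getElem_mem hk'
      · rw [mul_smul, he]; exact hstep i k j hk' (by omega) hj hs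
  · intro g hg
    let A : Set α := f '' {i | i < n}
    have hfin : A.Finite := (Set.finite_lt_nat n).image f
    have hA : g ∈ MulAction.stabilizer (Equiv.Perm (Fin 112)) A := by
      refine (Subgroup.closure_le _).2 ?_ hg
      intro p hp
      obtain ⟨k, hk, rfl⟩ := List.getElem_of_mem hp
      refine MulAction.mem_stabilizer_iff.2 (Set.eq_of_subset_of_ncard_le ?_ ?_ hfin)
      · rintro _ ⟨_, ⟨i, hi, rfl⟩, rfl⟩
        obtain ⟨hlt, hs⟩ := hnext i hi k hk
        refine ⟨_, hlt, ?_⟩
        have := hstep i k _ hk hi hlt hs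
        rw [List.getD_eq_getElem _ _ hk] at this
        exact this.symm
      · rw [Set.ncard_smul_set]
    intro i hi
    have : g • f i ∈ A := by
      rw [← MulAction.mem_stabilizer_iff.1 hA]
      exact Set.smul_mem_smul_set ⟨i, hi, rfl⟩
    obtain ⟨j, hj, hje⟩ := this
    exact ⟨j, hj, hje.symm⟩

/-- A step between entries of a list of masks. -/
noncomputable def maskStep (ws : List (List ℕ)) (L : List ℕ) (i k j : ℕ) : Bool :=
  imgOK (ws.getD k []) (L.getD i 0) (L.getD j 0)

theorem orbit_masks (ws : List (List ℕ)) (L : List ℕ) (n : ℕ) (nxt par : List ℕ)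
    (hm : 0 < ws.length) (h : treeOK (maskStep ws L) ws.length n nxt par = true) :
    (∀ j < n, ∃ g ∈ Subgroup.closure {p | p ∈ ws.map wordP}, g • ofMask (L.getD 0 0) = ofMask (L.getD j 0)) ∧
      ∀ g ∈ Subgroup.closure {p | p ∈ ws.map wordP}, ∀ i < n, ∃ j < n,
        g • ofMask (L.getD i 0) = ofMask (L.getD j 0) := by
  refine orbit_of_tree (ws.map wordP) n (fun i => ofMask (L.getD i 0)) (maskStep ws L) nxt par ?_
    (by rwa [List.length_map]) (by rwa [List.length_map])
  intro i k j hk _ _ hs
  rw [List.length_map] at hk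
  rw [List.getD_eq_getElem _ _ (by rwa [List.length_map]), List.getElem_map, ← List.getD_eq_getElem _ [] hk]
  exact smul_ofMask hs

/-- A step between entries of a list of lines. -/
def lineStep (ws : List (List ℕ)) (L : List ℕ) (i k j : ℕ) : Bool :=
  decide (wordN (ws.getD k []) (L.getD i 0) = L.getD j 0) && decide (L.getD i 0 < 112)

/-- The line with a given number. -/
def lineAt (x : ℕ) : Fin 112 := ⟨x % 112, Nat.mod_lt _ (by norm_num)⟩

theorem orbit_lines (ws : List (List ℕ)) (L : List ℕ) (n : ℕ) (nxt par : List ℕ)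
    (hm : 0 < ws.length) (h : treeOK (lineStep ws L) ws.length n nxt par = true) :
    (∀ j < n, ∃ g ∈ Subgroup.closure {p | p ∈ ws.map wordP}, g (lineAt (L.getD 0 0)) = lineAt (L.getD j 0)) ∧
      ∀ g ∈ Subgroup.closure {p | p ∈ ws.map wordP}, ∀ i < n, ∃ j < n,
        g (lineAt (L.getD i 0)) = lineAt (L.getD j 0) := by
  refine orbit_of_tree (α := Fin 112) (ws.map wordP) n (fun i => lineAt (L.getD i 0)) (lineStep ws L) nxt par ?_
    (by rwa [List.length_map]) (by rwa [List.length_map])
  intro i k j hk _ _ hs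
  rw [List.length_map] at hk
  simp only [lineStep, Bool.and_eq_true, decide_eq_true_eq] at hs
  rw [List.getD_eq_getElem _ _ (by rwa [List.length_map]), List.getElem_map, ← List.getD_eq_getElem _ [] hk,
    Equiv.Perm.smul_def]
  refine Fin.ext ?_
  rw [wordP_val]
  show wordN _ (L.getD i 0 % 112) = L.getD j 0 % 112
  rw [Nat.mod_eq_of_lt hs.2, ← hs.1, Nat.mod_eq_of_lt]
  have := (wordP (ws.getD k []) ⟨L.getD i 0, hs.2⟩).isLt
  rwa [wordP_val] at this

theorem closure_le_lineGroup (ws : List (List ℕ)) :
    Subgroup.closure {p | p ∈ ws.map wordP} ≤ lineGroup := by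
  refine (Subgroup.closure_le _).2 ?_
  intro p hp
  obtain ⟨w, -, rfl⟩ := List.mem_map.1 (show p ∈ ws.map wordP from hp)
  exact wordP_mem w

/-- The four one-letter words. -/
def genWords : List (List ℕ) := [[0], [1], [2], [3]]

theorem lineGroup_eq : Subgroup.closure {p | p ∈ genWords.map wordP} = lineGroup := by
  refine le_antisymm (closure_le_lineGroup _) ((Subgroup.closure_le _).2 ?_)
  rintro _ ⟨k, rfl⟩
  have hk : genP k = wordP [k % 4] := Equiv.ext fun a => Fin.ext (by
    rw [genP_val, wordP_val]; simp [wordN, genN])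
  refine Subgroup.subset_closure ?_
  show genP k ∈ genWords.map wordP
  rw [hk]
  refine List.mem_map_of_mem ?_
  have : k % 4 = 0 ∨ k % 4 = 1 ∨ k % 4 = 2 ∨ k % 4 = 3 := by omega
  rcases this with e | e | e | e <;> simp [genWords, e]

end CfsgLib.Recog.McLRankThree
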