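import Cfsg.Agent.Lib.Recog.McLRankThree.Basic

/-!
# The checks of the tables
-/

set_option autoImplicit false
set_option maxRecDepth 100000
set_option Elab.async false
set_option maxHeartbeats 1000000

namespace CfsgLib.Recog.McLRankThree

/-- Adjacency of lines on numbers. -/
def adjB (x y : ℕ) : Bool := (lineNbrs.getD x 0).testBit y

theorem adj_basic : ((List.range 112).all fun x =>
    !adjB x x && decide (lineNbrs.getD x 0 < 2 ^ 112) &&
      ((List.range 112).all fun y => adjB x y == adjB y x) &&
      (List.range 4).all fun k => imgOK [k] (lineNbrs.getD x 0) (lineNbrs.getD (genN k x) 0)) = true := by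
  decide +kernel

theorem line_tree : treeOK (lineStep genWords lineOrder) 4 112 lineNext linePar = true := by
  decide +kernel

theorem near_tree : treeOK (lineStep stabWords nearOrder) 2 30 nearNext nearPar = true := by
  decide +kernel

theorem far_tree : treeOK (lineStep stabWords farOrder) 2 81 farNext farPar = true := by
  decide +kernel

theorem line_lists : ((List.range 112).all fun x => lineOrder.contains x &&
      (decide (x = 0) || if adjB 0 x then nearOrder.contains x else farOrder.contains x)) = true ∧
    (stabWords.all fun w => decide (wordN w 0 = 0)) = true ∧ stabWords.length = 2 ∧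
    (lineOrder.length = 112 ∧ lineOrder.getD 0 0 = 0) ∧ (nearOrder.length = 30 ∧ farOrder.length = 81) ∧
    (List.range 112).countP (adjB 0) = 30 := by
  decide +kernel

theorem clique_tree : treeOK (maskStep genWords cliqueOrder) 4 280 cliqueNext cliquePar = true := by
  decide +kernel

theorem clique_lists : cliqueOrder.Nodup ∧ cliqueOrder.length = 280 ∧
    ((List.range 280).all fun j => decide (cliqueOrder.getD j 0 < 2 ^ 112) &&
      decide (cliqueOrder.getD j 0 = (cliquePts.getD j []).foldr (fun x m => m ||| 2 ^ x) 0) &&
      decide ((cliquePts.getD j []).length = 4) && decide (cliquePts.getD j []).Nodup &&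
      (cliquePts.getD j []).all (fun x => decide (x < 112) &&
        (cliquePts.getD j []).all fun y => decide (x = y) || adjB x y)) = true := by
  decide +kernel

theorem clique_complete : ((List.range 112).all fun b => !adjB 0 b || (List.range 112).all fun c =>
    !(adjB 0 c && adjB b c) || (List.range 112).all fun d =>
      !(adjB 0 d && adjB b d && adjB c d) ||
        (cliqueOrder.contains (2 ^ 0 ||| 2 ^ b ||| 2 ^ c ||| 2 ^ d) &&
          (List.range 112).all fun e => !(adjB 0 e && adjB b e && adjB c e && adjB d e))) = true := by
  decide +kernel

/-- The orbit of a point under the element of order seven, as a mask. -/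
def sevenMask : ℕ → ℕ → ℕ
  | 0, _ => 0
  | n + 1, x => 2 ^ x ||| sevenMask n (wordN seven x)

theorem seven_check : ((List.range 112).all fun x =>
      decide (wordN seven (wordN seven (wordN seven (wordN seven (wordN seven (wordN seven
        (wordN seven x)))))) = x)) = true ∧
    wordN seven 0 ≠ 0 ∧
    ((List.range 16).all fun i =>
      decide (sevenOrbits.getD i 0 = sevenMask 7 (sevenReps.getD i 0)) && decide (sevenReps.getD i 0 < 112)) = true ∧
    ((List.range 112).all fun x => (List.range 16).any fun i => (sevenOrbits.getD i 0).testBit x) = true ∧
    sevenOrbits.length = 16 := by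
  decide +kernel

/-- The search through the unions of orbits: `c` chosen, `e` excluded. -/
def search (sols : List ℕ) : List ℕ → ℕ → ℕ → Bool
  | [], c, e =>
    cliquePts.any (fun q => Nat.blt 2 (q.countP c.testBit) || Nat.blt 2 (q.countP e.testBit)) ||
      sols.contains c
  | o :: os, c, e =>
    cliquePts.any (fun q => Nat.blt 2 (q.countP c.testBit) || Nat.blt 2 (q.countP e.testBit)) ||
      (search sols os (c ||| o) e && search sols os c (e ||| o))

theorem search_ok : search hemiRoots sevenOrbits 0 0 = true ∧ cliquePts.length = 280 := by
  decide +kernel

/-- The family with a given number. -/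
def famL (j : ℕ) : List ℕ := [fam0, fam1, fam2, fam3].getD j []

/-- The part meeting the root in twenty lines. -/
def nearL (j : ℕ) : List ℕ := [nearFam0, nearFam1, nearFam2, nearFam3].getD j []

/-- The rest. -/
def farL (j : ℕ) : List ℕ := [farFam0, farFam1, farFam2, farFam3].getD j []

/-- Generators of the stabiliser of a root. -/
def stabL (j : ℕ) : List (List ℕ) := [famStab0, famStab1, famStab2, famStab3].getD j []

/-- The comparison with the first family. -/
def shiftCode (j : ℕ) : ℕ := [shift0, shift1, shift2, shift3].getD j 0

/-- The images of the family entries. -/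
def shiftFamL (j : ℕ) : List ℕ := [shiftFam0, shiftFam1, shiftFam2, shiftFam3].getD j []

/-- The conjugated generators. -/
def shiftConjL (j : ℕ) : List (List ℕ) := [shiftConj0, shiftConj1, shiftConj2, shiftConj3].getD j []

theorem fam_trees : ((List.range 4).all fun j =>
    treeOK (maskStep genWords (famL j)) 4 162
      ([famNext0, famNext1, famNext2, famNext3].getD j []) ([famPar0, famPar1, famPar2, famPar3].getD j [])) = true := by
  decide +kernel

theorem nearFam_trees : ((List.range 4).all fun j =>
    treeOK (maskStep (stabL j) (nearL j)) 2 56
      ([nearFamNext0, nearFamNext1, nearFamNext2, nearFamNext3].getD j [])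
      ([nearFamPar0, nearFamPar1, nearFamPar2, nearFamPar3].getD j [])) = true := by
  decide +kernel

theorem farFam_trees : ((List.range 4).all fun j =>
    treeOK (maskStep (stabL j) (farL j)) 2 105
      ([farFamNext0, farFamNext1, farFamNext2, farFamNext3].getD j [])
      ([farFamPar0, farFamPar1, farFamPar2, farFamPar3].getD j [])) = true := by
  decide +kernel

theorem fam_lists : ((List.range 4).all fun j =>
    decide ((famL j).length = 162) && decide (famL j).Nodup && decide ((famL j).getD 0 0 = hemiRoots.getD j 0) &&
      decide ((nearL j).length = 56) && decide (nearL j).Nodup && decide ((farL j).length = 105) &&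
      decide ((stabL j).length = 2) &&
      (stabL j).all (fun w => imgOK w (hemiRoots.getD j 0) (hemiRoots.getD j 0)) &&
      (List.range 162).all (fun i => decide ((famL j).getD i 0 < 2 ^ 112) &&
        (decide (i = 0) || (nearL j).contains ((famL j).getD i 0) || (farL j).contains ((famL j).getD i 0))) &&
      (nearL j).all (fun m => (famL j).contains m) && !(nearL j).contains (hemiRoots.getD j 0)) = true ∧
    hemiRoots.length = 4 := by
  decide +kernel

open CfsgLib.Recog.BitPerm in
theorem shift_ok : shiftNets.length = 4 ∧ (shiftNets.all fun L => L.all (stageOK 7)) = true ∧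
    ((List.range 4).all fun j =>
      ((List.range 112).all fun x => decide (pget (shiftCode j) x < 112) &&
        mapsOK (fun i => shiftNets.getD i []) [j] (pget (shiftCode j) x) x &&
        Nat.beq (run (shiftNets.getD j []) (lineNbrs.getD x 0)) (lineNbrs.getD (pget (shiftCode j) x) 0)) &&
      ((List.range 4).all fun k => (List.range 112).all fun x =>
        decide (wordN ((shiftConjL j).getD k []) (pget (shiftCode j) x) = pget (shiftCode j) (genN k x))) &&
      (List.range 162).all fun i => decide ((shiftFamL j).getD i 0 < 162) &&
        Nat.beq (run (shiftNets.getD j []) ((famL j).getD i 0)) (fam0.getD ((shiftFamL j).getD i 0) 0)) = true := by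
  decide +kernel

/-- Adjacency in the graph on 275 points. -/
def modelB (a b : ℕ) : Bool := (rows.getD a 0).testBit b

theorem rows_lines : ((List.range 112).all fun x => modelB 0 (1 + x) && modelB (1 + x) 0 &&
      Nat.beq (Nat.land (Nat.shiftRight (rows.getD (1 + x) 0) 1) (2 ^ 112 - 1)) (lineNbrs.getD x 0) &&
      (List.range 162).all fun i => modelB (1 + x) (113 + i) == (fam0.getD i 0).testBit x) = true ∧
    ((List.range 162).all fun i => !modelB 0 (113 + i) && !modelB (113 + i) 0 &&
      Nat.beq (Nat.land (Nat.shiftRight (rows.getD (113 + i) 0) 1) (2 ^ 112 - 1)) (fam0.getD i 0)) = true ∧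
    modelB 0 0 = false := by
  decide +kernel

open CfsgLib.Recog.BitPerm in
theorem rows_equivariant : famNets.length = 4 ∧ (famNets.all fun L => L.all (stageOK 8)) = true ∧
    ((List.range 4).all fun k => (List.range 162).all fun i =>
      mapsOK (fun i => famNets.getD i []) [k] (famNext0.getD (i * 4 + k) 0) i &&
        Nat.beq (run (famNets.getD k []) (Nat.shiftRight (rows.getD (113 + i) 0) 113))
          (Nat.shiftRight (rows.getD (113 + famNext0.getD (i * 4 + k) 0) 0) 113)) = true := by
  decide +kernel

theorem rows_root : ((List.range 4).all fun j => (List.range 162).all fun i =>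
    modelB (113 + (shiftFamL j).getD 0 0) (113 + (shiftFamL j).getD i 0) ==
      (nearL j).contains ((famL j).getD i 0)) = true := by
  decide +kernel

end CfsgLib.Recog.McLRankThree
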