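import Cfsg.Agent.Lib.Recog.McLRankThree.Lines

/-!
# The four classes of hemisystems and the graph on 275 points
-/

set_option autoImplicit false

namespace CfsgLib.Recog.McLRankThree

open MulAction
open scoped Pointwise
open CfsgLib.Recog.BitPerm (Valid run mapsOK wordPerm testBit_run wordPerm_maps stageOK)

/-- A set of lines meeting every clique of four in two. -/
def IsHemi (T : Finset (Fin 112)) : Prop := ∀ j < 280, (T ∩ cliqueAt j).card = 2

theorem countP_le {T : Finset (Fin 112)} (hT : IsHemi T) {j : ℕ} (hj : j < 280) (c : ℕ)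
    (hc : ∀ x : Fin 112, c.testBit x.val = true → x ∈ T) : (cliquePts.getD j []).countP c.testBit ≤ 2 := by
  obtain ⟨-, hnd, -, hadj, hmem⟩ := clique_data hj
  rw [List.countP_eq_length_filter, ← List.toFinset_card_of_nodup (hnd.filter _), ← hT j hj,
    ← Finset.card_map Fin.valEmbedding]
  refine Finset.card_le_card fun n hn => ?_
  simp only [List.mem_toFinset, List.mem_filter] at hn
  exact Finset.mem_map.2 ⟨⟨n, (hadj n hn.1).1⟩, Finset.mem_inter.2 ⟨hc _ hn.2, (hmem _).2 hn.1⟩, rfl⟩

theorem countP_le_compl {T : Finset (Fin 112)} (hT : IsHemi T) {j : ℕ} (hj : j < 280) (e : ℕ)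
    (he : ∀ x : Fin 112, e.testBit x.val = true → x ∉ T) : (cliquePts.getD j []).countP e.testBit ≤ 2 := by
  obtain ⟨-, hnd, -, hadj, hmem⟩ := clique_data hj
  rw [List.countP_eq_length_filter, ← List.toFinset_card_of_nodup (hnd.filter _)]
  have h2 : (cliqueAt j \ T).card = 2 := by
    rw [Finset.card_sdiff, clique_card hj, hT j hj]
  rw [← h2, ← Finset.card_map Fin.valEmbedding]
  refine Finset.card_le_card fun n hn => ?_
  simp only [List.mem_toFinset, List.mem_filter] at hn
  exact Finset.mem_map.2 ⟨⟨n, (hadj n hn.1).1⟩, Finset.mem_sdiff.2 ⟨(hmem _).2 hn.1, he _ hn.2⟩, rfl⟩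

theorem no_prune {T : Finset (Fin 112)} (hT : IsHemi T) (c e : ℕ)
    (hc : ∀ x : Fin 112, c.testBit x.val = true → x ∈ T)
    (he : ∀ x : Fin 112, e.testBit x.val = true → x ∉ T) :
    cliquePts.any (fun q => Nat.blt 2 (q.countP c.testBit) || Nat.blt 2 (q.countP e.testBit)) = false := by
  rw [Bool.eq_false_iff]
  intro h
  obtain ⟨q, hq, hq'⟩ := List.any_eq_true.1 h
  obtain ⟨j, hj, rfl⟩ := List.getElem_of_mem hq
  rw [Bool.or_eq_true, Nat.blt_eq, Nat.blt_eq] at hq'
  have hj' : j < 280 := by rw [search_ok.2] at hj; exact hj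
  have h1 := countP_le hT hj' c hc
  have h2 := countP_le_compl hT hj' e he
  rw [List.getD_eq_getElem _ _ hj] at h1 h2
  omega

theorem search_sound {T : Finset (Fin 112)} (hT : IsHemi T) (sols : List ℕ) : ∀ (os : List ℕ) (c e : ℕ),
    search sols os c e = true →
    (∀ o ∈ os, (∀ x : Fin 112, o.testBit x.val = true → x ∈ T) ∨ (∀ x : Fin 112, o.testBit x.val = true → x ∉ T)) →
    (∀ x : Fin 112, c.testBit x.val = true → x ∈ T) → (∀ x : Fin 112, e.testBit x.val = true → x ∉ T) →
    (∀ x : Fin 112, x ∈ T → c.testBit x.val = true ∨ ∃ o ∈ os, o.testBit x.val = true) →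
    ∃ m ∈ sols, T = ofMask m
  | [], c, e, h, _, hc, he, hall => by
    rw [search, no_prune hT c e hc he, Bool.false_or] at h
    refine ⟨c, List.contains_iff_mem.1 h, ?_⟩
    ext x
    rw [mem_ofMask]
    exact ⟨fun hx => (hall x hx).resolve_right (by simp), hc x⟩
  | o :: os, c, e, h, hos, hc, he, hall => by
    rw [search, no_prune hT c e hc he, Bool.false_or, Bool.and_eq_true] at h
    rcases hos o List.mem_cons_self with ho | ho
    · refine search_sound hT sols os (c ||| o) e h.1 (fun o' ho' => hos o' (List.mem_cons_of_mem _ ho')) ?_ he ?_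
      · intro x hx
        rw [Nat.testBit_or, Bool.or_eq_true] at hx
        exact hx.elim (hc x) (ho x)
      · intro x hx
        rw [Nat.testBit_or, Bool.or_eq_true]
        rcases hall x hx with h1 | ⟨o', ho', h1⟩
        · exact Or.inl (Or.inl h1)
        · rcases List.mem_cons.1 ho' with rfl | ho'
          · exact Or.inl (Or.inr h1)
          · exact Or.inr ⟨o', ho', h1⟩
    · refine search_sound hT sols os c (e ||| o) h.2 (fun o' ho' => hos o' (List.mem_cons_of_mem _ ho')) hc ?_ ?_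
      · intro x hx
        rw [Nat.testBit_or, Bool.or_eq_true] at hx
        exact hx.elim (he x) (ho x)
      · intro x hx
        rcases hall x hx with h1 | ⟨o', ho', h1⟩
        · exact Or.inl h1
        · rcases List.mem_cons.1 ho' with rfl | ho'
          · exact absurd hx (ho x h1)
          · exact Or.inr ⟨o', ho', h1⟩

theorem sevenMask_mem {T : Finset (Fin 112)} (hinv : ∀ x : Fin 112, wordP seven x ∈ T ↔ x ∈ T) :
    ∀ (n : ℕ) (r : Fin 112) (x : Fin 112), (sevenMask n r.val).testBit x.val = true → (x ∈ T ↔ r ∈ T)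
  | 0, r, x, h => by simp [sevenMask] at h
  | n + 1, r, x, h => by
    rw [sevenMask, Nat.testBit_or, Bool.or_eq_true, Nat.testBit_two_pow, decide_eq_true_eq] at h
    rcases h with h | h
    · rw [Fin.ext h]
    · rw [← wordP_val] at h
      rw [sevenMask_mem hinv n _ x h, hinv]

/-- The root of a class. -/
def rootT (j : ℕ) : Finset (Fin 112) := ofMask (hemiRoots.getD j 0)

/-- An entry of a class. -/
def famT (j i : ℕ) : Finset (Fin 112) := ofMask ((famL j).getD i 0)

theorem exists_root_of_seven {T : Finset (Fin 112)} (hT : IsHemi T) (hinv : wordP seven • T = T) :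
    ∃ j < 4, T = rootT j := by
  obtain ⟨-, -, horb, hcov, hlen⟩ := seven_check
  have hinv' : ∀ x : Fin 112, wordP seven x ∈ T ↔ x ∈ T := fun x => by
    conv_lhs => rw [← hinv, ← Finset.inv_smul_mem_iff, Equiv.Perm.smul_def]
    simp
  have hdi : ∀ o ∈ sevenOrbits, (∀ x : Fin 112, o.testBit x.val = true → x ∈ T) ∨
      (∀ x : Fin 112, o.testBit x.val = true → x ∉ T) := by
    intro o ho
    obtain ⟨i, hi, rfl⟩ := List.getElem_of_mem ho
    have h := List.all_eq_true.1 horb i (List.mem_range.2 (by omega))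
    simp only [Bool.and_eq_true, decide_eq_true_eq] at h
    rw [List.getD_eq_getElem _ _ hi] at h
    by_cases hr : (⟨sevenReps.getD i 0, h.2⟩ : Fin 112) ∈ T
    · exact Or.inl fun x hx => (sevenMask_mem hinv' 7 ⟨_, h.2⟩ x (h.1 ▸ hx)).2 hr
    · exact Or.inr fun x hx hxT => hr ((sevenMask_mem hinv' 7 ⟨_, h.2⟩ x (h.1 ▸ hx)).1 hxT)
  obtain ⟨m, hm, hTm⟩ := search_sound hT hemiRoots sevenOrbits 0 0 search_ok.1 hdi (by simp) (by simp)
    (fun x _ => Or.inr (by
      obtain ⟨i, hi, hb⟩ := List.any_eq_true.1 (List.all_eq_true.1 hcov x.val (List.mem_range.2 x.isLt))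
      rw [List.mem_range, ← hlen] at hi
      exact ⟨_, List.getElem_mem hi, by rwa [List.getD_eq_getElem _ _ hi] at hb⟩))
  obtain ⟨j, hj, rfl⟩ := List.getElem_of_mem hm
  refine ⟨j, by rw [fam_lists.2] at hj; exact hj, ?_⟩
  rw [rootT, List.getD_eq_getElem _ _ hj]
  exact hTm

theorem fam_data {j : ℕ} (hj : j < 4) :
    (famL j).length = 162 ∧ (famL j).Nodup ∧ (famL j).getD 0 0 = hemiRoots.getD j 0 ∧ (nearL j).length = 56 ∧
    (nearL j).Nodup ∧ (farL j).length = 105 ∧ (stabL j).length = 2 ∧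
    (∀ w ∈ stabL j, wordP w • rootT j = rootT j) ∧
    (∀ i < 162, (famL j).getD i 0 < 2 ^ 112 ∧
      (i = 0 ∨ (famL j).getD i 0 ∈ nearL j ∨ (famL j).getD i 0 ∈ farL j)) ∧
    (∀ m ∈ nearL j, m ∈ famL j) ∧ hemiRoots.getD j 0 ∉ nearL j := by
  have h := List.all_eq_true.1 fam_lists.1 j (List.mem_range.2 hj)
  simp only [Bool.and_eq_true, Bool.or_eq_true, decide_eq_true_eq, List.all_eq_true, List.mem_range,
    List.contains_iff_mem, Bool.not_eq_true', ← Bool.not_eq_true] at h
  obtain ⟨⟨⟨⟨⟨⟨⟨⟨⟨⟨h1, h2⟩, h3⟩, h4⟩, h5⟩, h6⟩, h7⟩, h8⟩, h9⟩, h10⟩, h11⟩ := h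
  exact ⟨h1, h2, h3, h4, h5, h6, h7, fun w hw => smul_ofMask (h8 w hw),
    fun i hi => ⟨(h9 i hi).1, or_assoc.1 (h9 i hi).2⟩, h10, h11⟩

theorem famT_zero {j : ℕ} (hj : j < 4) : famT j 0 = rootT j := by
  rw [famT, (fam_data hj).2.2.1]; rfl

theorem famT_inj {j : ℕ} (hj : j < 4) {a b : ℕ} (ha : a < 162) (hb : b < 162) (h : famT j a = famT j b) :
    a = b := by
  obtain ⟨hlen, hnd, -, -, -, -, -, -, hlt, -⟩ := fam_data hj
  have e : (famL j).getD a 0 = (famL j).getD b 0 := by
    refine Nat.eq_of_testBit_eq fun i => ?_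
    rcases Nat.lt_or_ge i 112 with hi | hi
    · have := Finset.ext_iff.1 h ⟨i, hi⟩
      simp only [famT, mem_ofMask] at this
      exact Bool.eq_iff_iff.2 this
    · rw [Nat.testBit_lt_two_pow (lt_of_lt_of_le (hlt a ha).1 (Nat.pow_le_pow_right (by norm_num) hi)),
        Nat.testBit_lt_two_pow (lt_of_lt_of_le (hlt b hb).1 (Nat.pow_le_pow_right (by norm_num) hi))]
  rw [List.getD_eq_getElem _ _ (hlen.symm ▸ ha), List.getD_eq_getElem _ _ (hlen.symm ▸ hb)] at e
  exact hnd.getElem_inj_iff.1 e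

theorem fam_tree_spec {j : ℕ} (hj : j < 4) :
    (∀ i < 162, ∃ g ∈ lineGroup, g • rootT j = famT j i) ∧
      ∀ g ∈ lineGroup, ∀ i < 162, ∃ k < 162, g • famT j i = famT j k := by
  have h := orbit_masks genWords (famL j) 162 _ _ (by decide)
    (List.all_eq_true.1 fam_trees j (List.mem_range.2 hj))
  rw [lineGroup_eq] at h
  refine ⟨fun i hi => ?_, h.2⟩
  obtain ⟨g, hg, he⟩ := h.1 i hi
  rw [← famT_zero hj]
  exact ⟨g, hg, he⟩

theorem fam_orbit {j : ℕ} (hj : j < 4) :
    orbit ↥lineGroup (rootT j) = famT j '' {i | i < 162} ∧ (orbit ↥lineGroup (rootT j)).ncard = 162 := by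
  obtain ⟨h1, h2⟩ := fam_tree_spec hj
  have he : orbit ↥lineGroup (rootT j) = famT j '' {i | i < 162} := by
    ext T
    constructor
    · rintro ⟨g, rfl⟩
      obtain ⟨k, hk, hke⟩ := h2 g.1 g.2 0 (by norm_num)
      refine ⟨k, hk, hke.symm.trans ?_⟩
      rw [famT_zero hj]; rfl
    · rintro ⟨i, hi, rfl⟩
      obtain ⟨g, hg, hge⟩ := h1 i hi
      exact ⟨⟨g, hg⟩, hge⟩
  refine ⟨he, ?_⟩
  have hio : Set.InjOn (famT j) {i | i < 162} := fun a ha b hb => famT_inj hj ha hb
  rw [he, Set.ncard_image_of_injOn hio]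
  have : {i : ℕ | i < 162} = ↑(Finset.range 162) := by ext i; simp
  rw [this, Set.ncard_coe_finset, Finset.card_range]

theorem root_stab {j : ℕ} (hj : j < 4) {g : Equiv.Perm (Fin 112)}
    (hg : g ∈ Subgroup.closure {p | p ∈ (stabL j).map wordP}) : g ∈ lineGroup ∧ g • rootT j = rootT j := by
  refine ⟨closure_le_lineGroup _ hg, ?_⟩
  have : Subgroup.closure {p | p ∈ (stabL j).map wordP} ≤ stabilizer (Equiv.Perm (Fin 112)) (rootT j) := by
    refine (Subgroup.closure_le _).2 ?_
    intro p hp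
    obtain ⟨w, hw, rfl⟩ := List.mem_map.1 (show p ∈ (stabL j).map wordP from hp)
    exact mem_stabilizer_iff.2 ((fam_data hj).2.2.2.2.2.2.2.1 w hw)
  exact this hg

/-- The 56 entries next to the root. -/
def nearSet (j : ℕ) : Set (Finset (Fin 112)) := {T | ∃ m ∈ nearL j, T = ofMask m}

/-- The set of 56 is the only union of suborbits of that size missing the root. -/
theorem eq_nearSet {j : ℕ} (hj : j < 4) (A : Set (Finset (Fin 112))) (hA : A ⊆ orbit ↥lineGroup (rootT j))
    (hroot : rootT j ∉ A) (hinv : ∀ g ∈ lineGroup, g • rootT j = rootT j → ∀ T ∈ A, g • T ∈ A)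
    (hcard : A.ncard = 56) : A = nearSet j := by
  obtain ⟨hlen, hnd, hhead, hnl, hnnd, hfl, hsl, -, hsplit, hnf, hnr⟩ := fam_data hj
  have hstep : treeOK (maskStep (stabL j) (farL j)) 2 105 _ _ = true :=
    List.all_eq_true.1 farFam_trees j (List.mem_range.2 hj)
  rw [← hsl] at hstep
  have hfar := (orbit_masks (stabL j) (farL j) 105 _ _ (by omega) hstep).1
  have hinj : ∀ {a b : ℕ}, a ∈ famL j → b ∈ famL j → ofMask a = ofMask b → a = b := by
    intro a b ha hb h
    obtain ⟨i, hi, rfl⟩ := List.getElem_of_mem ha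
    obtain ⟨k, hk, rfl⟩ := List.getElem_of_mem hb
    have := famT_inj hj (a := i) (b := k) (by omega) (by omega)
      (by rw [famT, famT, List.getD_eq_getElem _ _ hi, List.getD_eq_getElem _ _ hk]; exact h)
    subst this; rfl
  have hfamsplit : ∀ T ∈ orbit ↥lineGroup (rootT j), T = rootT j ∨ T ∈ nearSet j ∨
      ∃ m ∈ farL j, T = ofMask m := by
    intro T hT
    rw [(fam_orbit hj).1] at hT
    obtain ⟨i, hi, rfl⟩ := hT
    rcases (hsplit i hi).2 with rfl | h | h
    · exact Or.inl (famT_zero hj)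
    · exact Or.inr (Or.inl ⟨_, h, rfl⟩)
    · exact Or.inr (Or.inr ⟨_, h, rfl⟩)
  have hncard : (nearSet j).ncard = 56 := by
    have e : nearSet j = ↑((nearL j).toFinset.image ofMask) := by
      ext T; simp [nearSet, eq_comm]
    rw [e, Set.ncard_coe_finset, Finset.card_image_of_injOn (fun a ha b hb => hinj (hnf a (List.mem_toFinset.1 ha))
      (hnf b (List.mem_toFinset.1 hb))), List.toFinset_card_of_nodup hnnd, hnl]
  by_cases hsub : A ⊆ nearSet j
  · exact Set.eq_of_subset_of_ncard_le hsub (by omega) (Set.toFinite _)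
  exfalso
  obtain ⟨T, hTA, hTn⟩ := Set.not_subset.1 hsub
  obtain ⟨m, hm, rfl⟩ := ((hfamsplit T (hA hTA)).resolve_left fun e => hroot (e ▸ hTA)).resolve_left hTn
  obtain ⟨a, ha, rfl⟩ := List.getElem_of_mem hm
  -- the whole far orbit lies in `A`
  have hall : ∀ b < 105, ofMask ((farL j).getD b 0) ∈ A := by
    intro b hb
    obtain ⟨g, hg, hge⟩ := hfar a (by omega)
    obtain ⟨h, hh, hhe⟩ := hfar b hb
    obtain ⟨k1, k2⟩ := root_stab hj (mul_mem hh (inv_mem hg))
    rw [List.getD_eq_getElem _ _ ha] at hge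
    have := hinv _ k1 k2 _ hTA
    rwa [mul_smul, ← hge, inv_smul_smul, hhe] at this
  have horb := (fam_orbit hj).2
  -- the orbit is covered by the root, the 56 and at most 105 others
  let Fs : Set (Finset (Fin 112)) := ↑((farL j).toFinset.image ofMask)
  have hcov : orbit ↥lineGroup (rootT j) ⊆ insert (rootT j) (nearSet j ∪ Fs) := by
    intro T hT
    rcases hfamsplit T hT with h | h | ⟨m, hm, rfl⟩
    · exact Or.inl h
    · exact Or.inr (Or.inl h)
    · exact Or.inr (Or.inr (Finset.mem_image_of_mem _ (List.mem_toFinset.2 hm)))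
  have h1 := Set.ncard_le_ncard hcov (Set.toFinite _)
  have h2 := Set.ncard_insert_le (rootT j) (nearSet j ∪ Fs)
  have h3 := Set.ncard_union_le (nearSet j) Fs
  have h5 : Fs.ncard ≤ A.ncard := by
    refine Set.ncard_le_ncard ?_ (Set.toFinite _)
    intro T hT
    obtain ⟨m, hm, rfl⟩ := Finset.mem_image.1 hT
    obtain ⟨b, hb, rfl⟩ := List.getElem_of_mem (List.mem_toFinset.1 hm)
    have := hall b (by omega)
    rwa [List.getD_eq_getElem _ _ hb] at this
  omega

/-- Adjacency on 275 points. -/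
def madj (a b : Fin 275) : Prop := modelB a.val b.val = true

/-- The point of a line. -/
def mLine (x : Fin 112) : Fin 275 := ⟨1 + x.val, by omega⟩

/-- The point of an entry of the first class. -/
def mFam (i : Fin 162) : Fin 275 := ⟨113 + i.val, by omega⟩

theorem madj_lines (x : Fin 112) : madj 0 (mLine x) ∧ madj (mLine x) 0 ∧
    (∀ y, madj (mLine x) (mLine y) ↔ ladj x y) ∧
    ∀ i : Fin 162, madj (mLine x) (mFam i) ↔ x ∈ famT 0 i.val := by
  have h := List.all_eq_true.1 rows_lines.1 x.val (List.mem_range.2 x.isLt)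
  simp only [Bool.and_eq_true, List.all_eq_true, List.mem_range, beq_iff_eq] at h
  refine ⟨h.1.1.1, h.1.1.2, fun y => ?_, fun i => ?_⟩
  · have := congrArg (fun n => n.testBit y.val) (Nat.eq_of_beq_eq_true h.1.2)
    change ((rows.getD (1 + x.val) 0 >>> 1) &&& (2 ^ 112 - 1)).testBit y.val = _ at this
    rw [Nat.testBit_and, Nat.testBit_shiftRight, Nat.testBit_two_pow_sub_one, decide_eq_true y.isLt,
      Bool.and_true] at this
    show modelB (1 + x.val) (1 + y.val) = true ↔ adjB x.val y.val = true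
    rw [modelB, adjB, this]
  · rw [famT, mem_ofMask]
    show modelB (1 + x.val) (113 + i.val) = true ↔ _
    rw [h.2 i.val i.isLt]
    rfl

theorem madj_fams (i : Fin 162) : ¬ madj 0 (mFam i) ∧ ¬ madj (mFam i) 0 ∧
    ∀ x : Fin 112, madj (mFam i) (mLine x) ↔ x ∈ famT 0 i.val := by
  have h := List.all_eq_true.1 rows_lines.2.1 i.val (List.mem_range.2 i.isLt)
  simp only [Bool.and_eq_true, Bool.not_eq_true'] at h
  refine ⟨by simp [madj, mFam, h.1.1], by simp [madj, mFam, h.1.2], fun x => ?_⟩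
  have := congrArg (fun n => n.testBit x.val) (Nat.eq_of_beq_eq_true h.2)
  change ((rows.getD (113 + i.val) 0 >>> 1) &&& (2 ^ 112 - 1)).testBit x.val = _ at this
  rw [Nat.testBit_and, Nat.testBit_shiftRight, Nat.testBit_two_pow_sub_one, decide_eq_true x.isLt,
    Bool.and_true] at this
  rw [famT, mem_ofMask]
  show modelB (113 + i.val) (1 + x.val) = true ↔ _
  rw [modelB, this]
  rfl

theorem madj_zero : ¬ madj 0 0 := by
  simp [madj, rows_lines.2.2]

/-- The index in the first class. -/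
noncomputable def famIndex (T : Finset (Fin 112)) : Fin 162 :=
  if h : ∃ i : Fin 162, famT 0 i.val = T then h.choose else 0

theorem famIndex_famT (i : Fin 162) : famIndex (famT 0 i.val) = i := by
  have h : ∃ k : Fin 162, famT 0 k.val = famT 0 i.val := ⟨i, rfl⟩
  rw [famIndex, dif_pos h]
  exact Fin.ext (famT_inj (by norm_num) h.choose.isLt i.isLt h.choose_spec)

/-- The next index in the first class. -/
def famStep (k i : ℕ) : ℕ := famNext0.getD (i * 4 + k) 0

theorem famStep_spec {k i : ℕ} (hk : k < 4) (hi : i < 162) :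
    famStep k i < 162 ∧ genP k • famT 0 i = famT 0 (famStep k i) ∧
      ∀ m < 162, modelB (113 + famStep k i) (113 + famStep k m) = modelB (113 + i) (113 + m) := by
  have h0 := List.all_eq_true.1 fam_trees 0 (List.mem_range.2 (by norm_num))
  simp only [treeOK, Bool.and_eq_true, List.all_eq_true, List.mem_range, decide_eq_true_eq] at h0
  obtain ⟨hlt, hs⟩ := h0.1 i hi k hk
  have hword : (genWords.getD k []) = [k] := by interval_cases k <;> rfl
  have e : genP k • famT 0 i = famT 0 (famStep k i) := by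
    have := smul_ofMask hs
    rw [hword] at this
    rw [show genP k = wordP [k] from (mul_one _).symm]
    exact this
  refine ⟨hlt, e, fun m hm => ?_⟩
  have hE := List.all_eq_true.1 (List.all_eq_true.1 rows_equivariant.2.2 k (List.mem_range.2 hk)) m
    (List.mem_range.2 hm)
  have hV : Valid 8 (fun i => famNets.getD i []) := ⟨fun x st hst => by
    rcases Nat.lt_or_ge x famNets.length with hx | hx
    · rw [List.getD_eq_getElem _ _ hx] at hst
      exact List.all_eq_true.1 (List.all_eq_true.1 rows_equivariant.2.1 _ (List.getElem_mem hx)) st hst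
    · rw [List.getD_eq_default _ _ hx] at hst
      exact absurd hst List.not_mem_nil⟩
  simp only [Bool.and_eq_true] at hE
  have hp := wordPerm_maps hV hE.1
  simp only [wordPerm, List.map_cons, List.map_nil, List.prod_cons, List.prod_nil, mul_one] at hp
  have hI := List.all_eq_true.1 (List.all_eq_true.1 rows_equivariant.2.2 k (List.mem_range.2 hk)) i
    (List.mem_range.2 hi)
  simp only [Bool.and_eq_true] at hI
  have hrow := congrArg (fun n => n.testBit (famStep k m)) (Nat.eq_of_beq_eq_true hI.2)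
  rw [testBit_run (hV.ok k)] at hrow
  have hp' : CfsgLib.Recog.BitPerm.netPerm (famNets.getD k []) (famStep k m) = m := hp
  rw [hp'] at hrow
  unfold modelB
  rw [← Nat.testBit_shiftRight, ← Nat.testBit_shiftRight]
  exact hrow.symm

/-- The adjacency of the last 162 points, on sets of lines. -/
def famRel (S T : Finset (Fin 112)) : Prop := madj (mFam (famIndex S)) (mFam (famIndex T))

theorem famRel_smul {g : Equiv.Perm (Fin 112)} (hg : g ∈ lineGroup) {S T : Finset (Fin 112)}
    (hS : S ∈ orbit ↥lineGroup (rootT 0)) (hT : T ∈ orbit ↥lineGroup (rootT 0)) :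
    famRel (g • S) (g • T) ↔ famRel S T := by
  have key : ∀ g ∈ lineGroup, ∀ S ∈ orbit ↥lineGroup (rootT 0), ∀ T ∈ orbit ↥lineGroup (rootT 0),
      (famRel (g • S) (g • T) ↔ famRel S T) := by
    intro g hg
    induction hg using Subgroup.closure_induction with
    | mem p hp =>
      obtain ⟨k, rfl⟩ := hp
      intro S hS T hT
      rw [(fam_orbit (show 0 < 4 by norm_num)).1] at hS hT
      obtain ⟨a, ha, rfl⟩ := hS
      obtain ⟨b, hb, rfl⟩ := hT
      have hk : genP k = genP (k % 4) := Equiv.ext fun z => Fin.ext (by rw [genP_val, genP_val, genN_mod])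
      obtain ⟨a1, a2, a3⟩ := famStep_spec (Nat.mod_lt k (by norm_num : 0 < 4)) ha
      obtain ⟨b1, b2, -⟩ := famStep_spec (Nat.mod_lt k (by norm_num : 0 < 4)) hb
      rw [hk, a2, b2, famRel, famRel, famIndex_famT ⟨_, a1⟩, famIndex_famT ⟨_, b1⟩, famIndex_famT ⟨a, ha⟩,
        famIndex_famT ⟨b, hb⟩]
      unfold madj mFam
      rw [show modelB (113 + famStep (k % 4) a) (113 + famStep (k % 4) b) = _ from a3 b hb]
    | one => intro S _ T _; rw [one_smul, one_smul]
    | mul p q hp hq ihp ihq =>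
      intro S hS T hT
      have hq' : ∀ U ∈ orbit ↥lineGroup (rootT 0), q • U ∈ orbit ↥lineGroup (rootT 0) := fun U hU =>
        mem_orbit_of_mem_orbit (⟨q, hq⟩ : ↥lineGroup) hU
      rw [mul_smul, mul_smul, ihp _ (hq' S hS) _ (hq' T hT), ihq S hS T hT]
    | inv p hp ih =>
      intro S hS T hT
      have hp' : ∀ U ∈ orbit ↥lineGroup (rootT 0), p⁻¹ • U ∈ orbit ↥lineGroup (rootT 0) := fun U hU =>
        mem_orbit_of_mem_orbit (⟨p⁻¹, inv_mem hp⟩ : ↥lineGroup) hU
      rw [← ih _ (hp' S hS) _ (hp' T hT), smul_inv_smul, smul_inv_smul]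
  exact key g hg S hS T hT

/-- The comparison with the first class. -/
noncomputable def shiftP (j : ℕ) : Equiv.Perm (Fin 112) :=
  if h : Function.Bijective (fun x : Fin 112 => lineAt (pget (shiftCode j) x.val)) then Equiv.ofBijective _ h else 1

theorem shift_data {j : ℕ} (hj : j < 4) :
    (∀ x : Fin 112, (shiftP j x).val = pget (shiftCode j) x.val) ∧
    (∀ x y, ladj (shiftP j x) (shiftP j y) ↔ ladj x y) ∧
    (∀ g ∈ lineGroup, shiftP j * g * (shiftP j)⁻¹ ∈ lineGroup) ∧
    ∀ i < 162, (shiftFamL j).getD i 0 < 162 ∧ shiftP j • famT j i = famT 0 ((shiftFamL j).getD i 0) := by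
  obtain ⟨hlen, hst, hall⟩ := shift_ok
  have h := List.all_eq_true.1 hall j (List.mem_range.2 hj)
  simp only [Bool.and_eq_true, List.all_eq_true, List.mem_range, decide_eq_true_eq] at h
  obtain ⟨⟨hpts, hconj⟩, hfam⟩ := h
  have hV : Valid 7 (fun i => shiftNets.getD i []) := ⟨fun x st hst' => by
    rcases Nat.lt_or_ge x shiftNets.length with hx | hx
    · rw [List.getD_eq_getElem _ _ hx] at hst'
      exact List.all_eq_true.1 (List.all_eq_true.1 hst _ (List.getElem_mem hx)) st hst'
    · rw [List.getD_eq_default _ _ hx] at hst'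
      exact absurd hst' List.not_mem_nil⟩
  have hmap : ∀ x : Fin 112,
      CfsgLib.Recog.BitPerm.netPerm (shiftNets.getD j []) (pget (shiftCode j) x.val) = x.val := fun x => by
    have := wordPerm_maps hV (hpts x.val x.isLt).1.2
    simpa [wordPerm] using this
  have hbij : Function.Bijective (fun x : Fin 112 => lineAt (pget (shiftCode j) x.val)) := by
    refine Finite.injective_iff_bijective.1 fun x y h => Fin.ext ?_
    have e := congrArg Fin.val h
    simp only [lineAt, Nat.mod_eq_of_lt (hpts x.val x.isLt).1.1, Nat.mod_eq_of_lt (hpts y.val y.isLt).1.1] at e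
    rw [← hmap x, ← hmap y, e]
  have hval : ∀ x : Fin 112, (shiftP j x).val = pget (shiftCode j) x.val := fun x => by
    rw [shiftP, dif_pos hbij]
    exact Nat.mod_eq_of_lt (hpts x.val x.isLt).1.1
  have hbit : ∀ (X : ℕ) (x : Fin 112),
      (run (shiftNets.getD j []) X).testBit (shiftP j x).val = X.testBit x.val := fun X x => by
    rw [testBit_run (hV.ok j), hval, hmap]
  refine ⟨hval, fun x y => ?_, ?_, fun i hi => ⟨(hfam i hi).1, ?_⟩⟩
  · unfold ladj adjB
    have e := Nat.eq_of_beq_eq_true (hpts x.val x.isLt).2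
    rw [← hval] at e
    rw [← e, hbit]
  · intro g hg
    have : lineGroup ≤ lineGroup.comap (MulAut.conj (shiftP j)).toMonoidHom := by
      refine (Subgroup.closure_le _).2 ?_
      rintro _ ⟨k, rfl⟩
      show shiftP j * genP k * (shiftP j)⁻¹ ∈ lineGroup
      have e : shiftP j * genP k * (shiftP j)⁻¹ = wordP ((shiftConjL j).getD (k % 4) []) := by
        rw [mul_inv_eq_iff_eq_mul]
        refine Equiv.ext fun x => Fin.ext ?_
        rw [Equiv.Perm.mul_apply, Equiv.Perm.mul_apply, hval, wordP_val, hval, genP_val,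
          hconj (k % 4) (Nat.mod_lt _ (by norm_num)) x.val x.isLt, genN_mod]
      rw [e]
      exact wordP_mem _
    exact this hg
  · ext z
    rw [← Finset.inv_smul_mem_iff, famT, famT, mem_ofMask, mem_ofMask, show famL 0 = fam0 from rfl,
      ← Nat.eq_of_beq_eq_true (hfam i hi).2]
    obtain ⟨x, rfl⟩ := (shiftP j).surjective z
    rw [hbit, Equiv.Perm.smul_def]
    simp

theorem shift_orbit {j : ℕ} (hj : j < 4) {T : Finset (Fin 112)} (hT : T ∈ orbit ↥lineGroup (rootT j)) :
    shiftP j • T ∈ orbit ↥lineGroup (rootT 0) := by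
  rw [(fam_orbit hj).1] at hT
  rw [(fam_orbit (show 0 < 4 by norm_num)).1]
  obtain ⟨i, hi, rfl⟩ := hT
  obtain ⟨h1, h2⟩ := (shift_data hj).2.2.2 i hi
  exact ⟨_, h1, h2.symm⟩

theorem famRel_root {j : ℕ} (hj : j < 4) {T : Finset (Fin 112)} (hT : T ∈ orbit ↥lineGroup (rootT j)) :
    famRel (shiftP j • rootT j) (shiftP j • T) ↔ T ∈ nearSet j := by
  rw [(fam_orbit hj).1] at hT
  obtain ⟨i, hi, rfl⟩ := hT
  obtain ⟨hlen, -, -, -, -, -, -, -, hsplit, hnf, -⟩ := fam_data hj
  obtain ⟨r1, r2⟩ := (shift_data hj).2.2.2 0 (by norm_num)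
  obtain ⟨i1, i2⟩ := (shift_data hj).2.2.2 i hi
  rw [famT_zero hj] at r2
  rw [r2, i2, famRel, famIndex_famT ⟨_, r1⟩, famIndex_famT ⟨_, i1⟩]
  have h := List.all_eq_true.1 (List.all_eq_true.1 rows_root j (List.mem_range.2 hj)) i (List.mem_range.2 hi)
  rw [beq_iff_eq] at h
  show modelB (113 + (shiftFamL j).getD 0 0) (113 + (shiftFamL j).getD i 0) = true ↔ _
  rw [h, List.contains_iff_mem]
  constructor
  · exact fun hm => ⟨_, hm, rfl⟩
  · rintro ⟨m, hm, he⟩
    obtain ⟨k, hk, rfl⟩ := List.getElem_of_mem (hnf m hm)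
    have := famT_inj hj (a := i) (b := k) hi (by omega) (by rw [he, famT, List.getD_eq_getElem _ _ hk])
    subst this
    rwa [List.getD_eq_getElem _ _ hk]

end CfsgLib.Recog.McLRankThree
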