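import Cfsg.Agent.Lib.Recog.McLRankThree.Families

/-!
# The orbital graph of a rank three group on 275 points over the 112 lines is the model graph

The neighbours of a point carry the action on the lines, so two adjacent points have 30 common neighbours and two
others 56. Counting shows that a clique of five points is met twice by every other point, so the neighbours of a
distant point form a hemisystem fixed by an element of order seven, one of four classes.
-/

set_option autoImplicit false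
set_option linter.unusedSectionVars false

namespace CfsgLib.Recog.McLRankThree

open MulAction
open scoped Pointwise

variable {Ω : Type*} [Fintype Ω] [DecidableEq Ω] (G : Subgroup (Equiv.Perm Ω))

/-- The orbital relation of a suborbit. -/
def OrbRel (a b x y : Ω) : Prop :=
  ∃ g : ↥G, g • a = x ∧ g⁻¹ • y ∈ orbit ↥(stabilizer ↥G a) b

variable {G}

theorem orbRel_iff {a b x y : Ω} {g : ↥G} (hg : g • a = x) :
    OrbRel G a b x y ↔ g⁻¹ • y ∈ orbit ↥(stabilizer ↥G a) b := by
  refine ⟨fun ⟨g', hg', h⟩ => ?_, fun h => ⟨g, hg, h⟩⟩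
  have hs : g⁻¹ * g' ∈ stabilizer ↥G a := by
    rw [mem_stabilizer_iff, mul_smul, hg', ← hg, inv_smul_smul]
  have := mem_orbit_of_mem_orbit (⟨g⁻¹ * g', hs⟩ : ↥(stabilizer ↥G a)) h
  rwa [Subgroup.mk_smul, mul_smul, smul_inv_smul] at this

theorem orbRel_smul {a b x y : Ω} (h : ↥G) [IsPretransitive ↥G Ω] :
    OrbRel G a b (h • x) (h • y) ↔ OrbRel G a b x y := by
  obtain ⟨g, hg⟩ := exists_smul_eq (↥G) a x
  rw [orbRel_iff hg, orbRel_iff (g := h * g) (by rw [mul_smul, hg])]
  rw [mul_inv_rev, mul_smul, inv_smul_smul]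

variable [IsPretransitive ↥G Ω]

/-- The graph is the model graph. -/
theorem labelling (hΩ : Fintype.card Ω = 275) (a : Ω) (ψ : ↥(stabilizer ↥G a) ≃* ↥lineGroup)
    (hcard : Nat.card ↥lineGroup = 3265920) (b c : Ω)
    (hb : (orbit ↥(stabilizer ↥G a) b).ncard = 112) (hc : (orbit ↥(stabilizer ↥G a) c).ncard = 162) :
    ∃ χ : Ω ≃ Fin 275, χ a = 0 ∧
      (∀ (g : ↥G) (x y : Ω), madj (χ (g • x)) (χ (g • y)) ↔ madj (χ x) (χ y)) ∧
      (∀ s : ↥(stabilizer ↥G a), ∃ h ∈ lineGroup, ∀ x : Fin 112, χ (s • χ.symm (mLine x)) = mLine (h x)) ∧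
      (∀ x y : Fin 112, ∃ s : ↥(stabilizer ↥G a), χ (s • χ.symm (mLine x)) = mLine y) ∧
      ∀ i k : Fin 162, ∃ s : ↥(stabilizer ↥G a), χ (s • χ.symm (mFam i)) = mFam k := by
  classical
  set S := stabilizer ↥G a with hSdef
  have hS : Nat.card ↥S = 3265920 := by rw [Nat.card_congr ψ.toEquiv, hcard]
  have horb_a : orbit ↥S a = {a} := by
    ext z
    refine ⟨?_, fun h => ?_⟩
    · rintro ⟨s, rfl⟩; exact s.2
    · rw [Set.mem_singleton_iff.1 h]; exact mem_orbit_self a
  have hne : ∀ {u v : Ω}, (orbit ↥S u).ncard ≠ (orbit ↥S v).ncard → Disjoint (orbit ↥S u) (orbit ↥S v) := by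
    intro u v h
    rw [Set.disjoint_left]
    intro z hu hv
    exact h (congrArg Set.ncard ((orbit_eq_iff.2 hu).symm.trans (orbit_eq_iff.2 hv)))
  have hab : a ∉ orbit ↥S b := fun h => by
    rw [← orbit_eq_iff.2 h, horb_a, Set.ncard_singleton] at hb; omega
  have hac : a ∉ orbit ↥S c := fun h => by
    rw [← orbit_eq_iff.2 h, horb_a, Set.ncard_singleton] at hc; omega
  have hbc : Disjoint (orbit ↥S b) (orbit ↥S c) := hne (by omega)
  have hcover : ∀ z, z = a ∨ z ∈ orbit ↥S b ∨ z ∈ orbit ↥S c := by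
    have h : insert a (orbit ↥S b ∪ orbit ↥S c) = Set.univ := by
      refine Set.eq_of_subset_of_ncard_le (Set.subset_univ _) ?_
      rw [Set.ncard_univ, Nat.card_eq_fintype_card, hΩ,
        Set.ncard_insert_of_notMem (by simp [hab, hac]), Set.ncard_union_eq hbc, hb, hc]
    intro z
    have hz : z ∈ insert a (orbit ↥S b ∪ orbit ↥S c) := h ▸ Set.mem_univ z
    simpa using hz
  -- the suborbit is self-paired
  have hpair : ∀ g : ↥G, g • a = b → g⁻¹ • a ∈ orbit ↥S b := by
    intro g hg
    have hst : Nat.card ↥(stabilizer ↥S (g⁻¹ • a)) = Nat.card ↥(stabilizer ↥S b) := by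
      refine Nat.card_congr
        { toFun := fun s => ⟨⟨g * s.1.1 * g⁻¹, ?_⟩, ?_⟩
          invFun := fun s => ⟨⟨g⁻¹ * s.1.1 * g, ?_⟩, ?_⟩
          left_inv := fun s => Subtype.ext (Subtype.ext (by group))
          right_inv := fun s => Subtype.ext (Subtype.ext (by group)) }
      · have h2 : s.1.1 • (g⁻¹ • a) = g⁻¹ • a := s.2
        show (g * s.1.1 * g⁻¹) • a = a
        rw [mul_smul, mul_smul, h2, smul_inv_smul]
      · show (g * s.1.1 * g⁻¹) • b = b
        rw [← hg, mul_smul, mul_smul, inv_smul_smul, show s.1.1 • a = a from s.1.2]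
      · have h2 : s.1.1 • b = b := s.2
        show (g⁻¹ * s.1.1 * g) • a = a
        rw [mul_smul, mul_smul, hg, h2, ← hg, inv_smul_smul]
      · show (g⁻¹ * s.1.1 * g) • (g⁻¹ • a) = g⁻¹ • a
        rw [mul_smul, mul_smul, smul_inv_smul, show s.1.1 • a = a from s.1.2]
    have h1 := (stabilizer ↥S (g⁻¹ • a)).card_mul_index
    rw [index_stabilizer, hst] at h1
    have h2 := (stabilizer ↥S b).card_mul_index
    rw [index_stabilizer] at h2
    have hcd : (orbit ↥S (g⁻¹ • a)).ncard = 112 := by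
      rw [← hb]
      exact Nat.eq_of_mul_eq_mul_left Nat.card_pos (h1.trans h2.symm)
    rcases hcover (g⁻¹ • a) with h | h | h
    · rw [h, horb_a, Set.ncard_singleton] at hcd; omega
    · exact h
    · rw [orbit_eq_iff.2 h, hc] at hcd; omega
  let Γ : SimpleGraph Ω :=
    { Adj := OrbRel G a b
      symm := ⟨fun x y h => by
        obtain ⟨g, hg, s, hs⟩ := h
        obtain ⟨g₀, hg₀⟩ := exists_smul_eq (↥G) a b
        have hy : (g * s.1 * g₀) • a = y := by
          have hs' : s.1 • b = g⁻¹ • y := hs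
          rw [mul_smul, mul_smul, hg₀, hs', smul_inv_smul]
        refine (orbRel_iff hy).2 ?_
        rw [← hg, mul_inv_rev, mul_inv_rev, mul_smul, mul_smul, inv_smul_smul,
          show s.1⁻¹ • a = a from inv_smul_eq_iff.2 (show s.1 • a = a from s.2).symm]
        exact hpair g₀ hg₀⟩
      loopless := ⟨fun x h => by
        obtain ⟨g, hg, h'⟩ := h
        rw [← hg, inv_smul_smul] at h'
        exact hab h'⟩ }
  have hinv : ∀ (g : ↥G) (x y : Ω), Γ.Adj (g • x) (g • y) ↔ Γ.Adj x y := fun g x y => orbRel_smul g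
  have hirr : ∀ x, ¬ Γ.Adj x x := fun x => Γ.loopless.irrefl x
  have hadj_a : ∀ y, Γ.Adj a y ↔ y ∈ orbit ↥S b := fun y => by
    show OrbRel G a b a y ↔ _
    rw [orbRel_iff (one_smul _ a), inv_one, one_smul]
  have hsinv : ∀ (s : ↥S) (z : Ω), Γ.Adj a (s • z) ↔ Γ.Adj a z := fun s z => by
    conv_lhs => rw [← (show s.1 • a = a from s.2), show s • z = s.1 • z from rfl, hinv]
  have hcount : ∀ (g : ↥G) (p : Ω → Prop), {z | p z}.ncard = {z | p (g • z)}.ncard := fun g p =>
    (Set.ncard_congr' (Equiv.subtypeEquiv (MulAction.toPerm g) fun z => Iff.rfl)).symm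
  have hdeg : ∀ x, {z | Γ.Adj x z}.ncard = 112 := by
    intro x
    obtain ⟨g, hg⟩ := exists_smul_eq (↥G) a x
    rw [hcount g]
    simp only [← hg, hinv, hadj_a]
    exact hb
  -- the labelling of the neighbours
  letI : MulAction ↥lineGroup (orbit ↥S b) := MulAction.compHom _ ψ.symm.toMonoidHom
  haveI : IsPretransitive ↥lineGroup (orbit ↥S b) := ⟨fun u v => by
    obtain ⟨s, hs⟩ := exists_smul_eq (↥S) u v
    refine ⟨ψ s, ?_⟩
    show ψ.symm (ψ s) • u = v
    rw [ψ.symm_apply_apply, hs]⟩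
  obtain ⟨φ, hφ⟩ := exists_labelling hcard (X := orbit ↥S b) (by rw [Nat.card_coe_set_eq, hb])
  let e : Fin 112 → Ω := fun x => (φ.symm x).1
  have he_mem : ∀ x, e x ∈ orbit ↥S b := fun x => (φ.symm x).2
  have he_inj : Function.Injective e := fun x y h => φ.symm.injective (Subtype.ext h)
  have he_adj : ∀ x, Γ.Adj a (e x) := fun x => (hadj_a _).2 (he_mem x)
  have he_surj : ∀ z, Γ.Adj a z → ∃ x, e x = z := fun z hz =>
    ⟨φ ⟨z, (hadj_a z).1 hz⟩, by simp [e]⟩
  have he_eq : ∀ (s : ↥S) (x : Fin 112), s • e x = e ((ψ s : Equiv.Perm (Fin 112)) x) := by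
    intro s x
    have h1 := hφ (ψ s) (φ.symm x)
    rw [Equiv.apply_symm_apply] at h1
    show s • e x = (φ.symm _).1
    rw [← h1, Equiv.symm_apply_apply]
    show s • (φ.symm x).1 = ((ψ.symm (ψ s)) • φ.symm x).1
    rw [ψ.symm_apply_apply]
    rfl
  have heS : ∀ (h : ↥lineGroup) (x : Fin 112), ψ.symm h • e x = e ((h : Equiv.Perm (Fin 112)) x) := fun h x => by
    rw [he_eq, ψ.apply_symm_apply]
  have hAinv : ∀ g ∈ lineGroup, ∀ x y, Γ.Adj (e (g x)) (e (g y)) ↔ Γ.Adj (e x) (e y) := by
    intro g hg x y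
    rw [← heS ⟨g, hg⟩ x, ← heS ⟨g, hg⟩ y]
    exact hinv _ _ _
  -- common neighbours of `a` and a neighbour
  let lam : ℕ := {y | Γ.Adj (e 0) (e y)}.ncard
  have hlam : ∀ x, {z | Γ.Adj a z ∧ Γ.Adj (e x) z}.ncard = lam := by
    intro x
    obtain ⟨g, hg, rfl⟩ := exists_move_zero x
    have e1 : {z | Γ.Adj a z ∧ Γ.Adj (e (g 0)) z} = (fun y => e (g y)) '' {y | Γ.Adj (e 0) (e y)} := by
      ext z
      simp only [Set.mem_image, Set.mem_ofPred_eq]
      constructor
      · rintro ⟨h1, h2⟩
        obtain ⟨y, rfl⟩ := he_surj z h1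
        exact ⟨g⁻¹ y, by rw [← hAinv g hg]; simpa using h2, by simp⟩
      · rintro ⟨y, hy, rfl⟩
        exact ⟨he_adj _, (hAinv g hg 0 y).2 hy⟩
    rw [e1]
    exact Set.ncard_image_of_injective _ (he_inj.comp g.injective)
  -- edge counting between the two suborbits
  have hcc : ∀ (s : ↥S), {z | Γ.Adj a z ∧ Γ.Adj (s • c) z}.ncard = {z | Γ.Adj a z ∧ Γ.Adj c z}.ncard := by
    intro s
    rw [hcount s.1 (fun z => Γ.Adj a z ∧ Γ.Adj (s • c) z)]
    congr 1
    ext z
    show Γ.Adj a (s • z) ∧ Γ.Adj (s.1 • c) (s.1 • z) ↔ _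
    rw [hsinv, hinv]
    rfl
  have hedge : 112 * (111 - lam) = 162 * {z | Γ.Adj a z ∧ Γ.Adj c z}.ncard ∧ lam ≤ 111 := by
    let A : Finset Ω := (orbit ↥S b).toFinset
    let C : Finset Ω := (orbit ↥S c).toFinset
    have h := Finset.sum_card_bipartiteAbove_eq_sum_card_bipartiteBelow (fun x y => Γ.Adj x y) (s := A) (t := C)
    have hL : ∀ z ∈ A, (Finset.bipartiteAbove (fun x y => Γ.Adj x y) C z).card + lam + 1 = 112 := by
      intro z hz
      have hz' : Γ.Adj a z := (hadj_a z).2 (Set.mem_toFinset.1 hz)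
      obtain ⟨x, rfl⟩ := he_surj z hz'
      have hpart : {y | Γ.Adj (e x) y} = insert a ({y | Γ.Adj a y ∧ Γ.Adj (e x) y} ∪
          (↑(Finset.bipartiteAbove (fun x y => Γ.Adj x y) C (e x)) : Set Ω)) := by
        ext y
        simp only [Set.mem_ofPred_eq, Set.mem_insert_iff, Set.mem_union, Finset.coe_bipartiteAbove, C,
          Set.mem_toFinset]
        constructor
        · intro hy
          rcases hcover y with h | h | h
          · exact Or.inl h
          · exact Or.inr (Or.inl ⟨(hadj_a y).2 h, hy⟩)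
          · exact Or.inr (Or.inr ⟨h, hy⟩)
        · rintro (rfl | ⟨-, hy⟩ | ⟨-, hy⟩)
          exacts [hz'.symm, hy, hy]
      have hd := hdeg (e x)
      rw [hpart, Set.ncard_insert_of_notMem ?_ (Set.toFinite _), Set.ncard_union_eq ?_, hlam,
        Set.ncard_coe_finset] at hd
      · omega
      · rw [Set.disjoint_left]
        intro y hy hy'
        simp only [Finset.coe_bipartiteAbove, Set.mem_ofPred_eq, C, Set.mem_toFinset] at hy'
        exact Set.disjoint_left.1 hbc ((hadj_a y).1 hy.1) hy'.1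
      · simp only [Set.mem_union, Set.mem_ofPred_eq, Finset.coe_bipartiteAbove, C, Set.mem_toFinset]
        rintro (⟨h1, -⟩ | ⟨h1, -⟩)
        exacts [hirr a h1, hac h1]
    have hR : ∀ y ∈ C, (Finset.bipartiteBelow (fun x y => Γ.Adj x y) A y).card =
        {z | Γ.Adj a z ∧ Γ.Adj c z}.ncard := by
      intro y hy
      obtain ⟨s, rfl⟩ := Set.mem_toFinset.1 hy
      rw [← Set.ncard_coe_finset, ← hcc s]
      congr 1
      ext z
      simp only [Finset.coe_bipartiteBelow, Set.mem_ofPred_eq, A, Set.mem_toFinset, ← hadj_a, Γ.adj_comm z]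
    have hle : lam ≤ 111 := by
      have := hL (e 0) (Set.mem_toFinset.2 (he_mem 0))
      omega
    refine ⟨?_, hle⟩
    rw [Finset.sum_congr rfl (g := fun _ => 111 - lam) (fun z hz => by have := hL z hz; omega),
      Finset.sum_congr rfl hR, Finset.sum_const, Finset.sum_const,
      ← Set.ncard_eq_toFinset_card', ← Set.ncard_eq_toFinset_card', hb, hc, smul_eq_mul, smul_eq_mul] at h
    exact h
  -- the graph on the neighbours
  have hA : ∀ x y, Γ.Adj (e x) (e y) ↔ ladj x y := by
    have h0 : ∀ y y', y ≠ 0 → y' ≠ 0 → (ladj 0 y ↔ ladj 0 y') → (Γ.Adj (e 0) (e y) ↔ Γ.Adj (e 0) (e y')) := by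
      intro y y' hy hy' h
      obtain ⟨g, hg, hg0, hgy⟩ : ∃ g ∈ lineGroup, g 0 = 0 ∧ g y = y' := by
        by_cases hl : ladj 0 y
        · exact exists_near hl (h.1 hl)
        · exact exists_far hy hy' hl (fun h' => hl (h.2 h'))
      conv_lhs => rw [← hAinv g hg, hg0, hgy]
    obtain ⟨yn, hyn⟩ : ∃ y, ladj 0 y := by
      by_contra hno
      simp only [not_exists] at hno
      have := near_card_zero
      simp [hno] at this
    have hyn0 : yn ≠ 0 := fun h => ladj_irrefl 0 (h ▸ hyn)
    obtain ⟨yf, hyf0, hyf⟩ : ∃ y, y ≠ 0 ∧ ¬ ladj 0 y := by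
      by_contra hno
      push Not at hno
      have hsub : Finset.univ.erase (0 : Fin 112) ⊆ Finset.univ.filter fun y => ladj 0 y := fun y hy =>
        Finset.mem_filter.2 ⟨Finset.mem_univ _, hno y (Finset.ne_of_mem_erase hy)⟩
      have := Finset.card_le_card hsub
      rw [near_card_zero, Finset.card_erase_of_mem (Finset.mem_univ _), Finset.card_univ, Fintype.card_fin] at this
      omega
    have hlam' : lam = ((Finset.univ.filter fun y => Γ.Adj (e 0) (e y)).card) := by
      rw [← Set.ncard_coe_finset]; simp [lam]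
    have hne0 : ∀ {y}, Γ.Adj (e 0) (e y) → y ≠ 0 := fun h h' => hirr _ (h' ▸ h)
    have hfar81 : ((Finset.univ.filter fun y => ¬ ladj 0 y).erase 0).card = 81 := by
      rw [Finset.card_erase_of_mem (by simp [ladj_irrefl]), Finset.filter_not, Finset.card_sdiff,
        Finset.inter_univ, near_card_zero]
      simp
    by_cases hn : Γ.Adj (e 0) (e yn)
    · by_cases hf : Γ.Adj (e 0) (e yf)
      · -- the point, its neighbours form a block of 113
        exfalso
        have hall : ∀ y, y ≠ 0 → Γ.Adj (e 0) (e y) := fun y hy => by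
          by_cases hl : ladj 0 y
          · exact (h0 y yn hy hyn0 (iff_of_true hl hyn)).2 hn
          · exact (h0 y yf hy hyf0 (iff_of_false hl hyf)).2 hf
        let K : Set Ω := insert a {z | Γ.Adj a z}
        have hclosed : ∀ x ∈ K, insert x {z | Γ.Adj x z} = K := by
          rintro x (rfl | hx)
          · rfl
          obtain ⟨i, rfl⟩ := he_surj x hx
          have hKcard : K.ncard = 113 := by
            rw [Set.ncard_insert_of_notMem (show a ∉ {z | Γ.Adj a z} from hirr a), hdeg]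
          symm
          refine Set.eq_of_subset_of_ncard_le ?_ ?_ (Set.toFinite _)
          · rintro z (rfl | hz)
            · exact Set.mem_insert_of_mem _ (he_adj i).symm
            · obtain ⟨k, rfl⟩ := he_surj z hz
              rcases eq_or_ne k i with rfl | hki
              · exact Set.mem_insert _ _
              · refine Set.mem_insert_of_mem _ ?_
                obtain ⟨g, hg, rfl⟩ := exists_move_zero i
                show Γ.Adj (e (g 0)) (e k)
                rw [show k = g (g⁻¹ k) by simp, hAinv g hg]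
                exact hall _ fun h => hki (by rw [← h]; simp)
          · rw [hKcard, Set.ncard_insert_of_notMem (show e i ∉ {z | Γ.Adj (e i) z} from hirr _), hdeg]
        have hKcard : K.ncard = 113 := by
          rw [Set.ncard_insert_of_notMem (show a ∉ {z | Γ.Adj a z} from hirr a), hdeg]
        have himg : ∀ (g : ↥G) (x : Ω),
            g • (insert x {z | Γ.Adj x z} : Set Ω) = insert (g • x) {z | Γ.Adj (g • x) z} := by
          intro g x
          ext z
          rw [Set.mem_smul_set_iff_inv_smul_mem]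
          simp only [Set.mem_insert_iff, Set.mem_ofPred_eq, inv_smul_eq_iff]
          rw [← hinv g, smul_inv_smul]
        let H := stabilizer ↥G K
        have hmem : ∀ g : ↥G, g ∈ H ↔ g • a ∈ K := by
          intro g
          rw [mem_stabilizer_iff]
          refine ⟨fun h => h ▸ Set.smul_mem_smul_set (Set.mem_insert _ _), fun h => ?_⟩
          show g • (insert a {z | Γ.Adj a z} : Set Ω) = K
          rw [himg, hclosed _ h]
        have horbH : orbit ↥H a = K := by
          ext x
          refine ⟨?_, fun hx => ?_⟩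
          · rintro ⟨g, rfl⟩; exact (hmem g.1).1 g.2
          · obtain ⟨g, hg⟩ := exists_smul_eq (↥G) a x
            exact ⟨⟨g, (hmem g).2 (hg ▸ hx)⟩, hg⟩
        have hstH : Nat.card ↥(stabilizer ↥H a) = Nat.card ↥S :=
          Nat.card_congr
            { toFun := fun s => ⟨s.1.1, s.2⟩
              invFun := fun s => ⟨⟨s.1, (hmem s.1).2 (by
                rw [show s.1 • a = a from s.2]; exact Set.mem_insert _ _)⟩, s.2⟩
              left_inv := fun s => rfl
              right_inv := fun s => rfl }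
        have hH := (stabilizer ↥H a).card_mul_index
        rw [index_stabilizer, horbH, hKcard, hstH, hS] at hH
        have hG := S.card_mul_index
        rw [index_stabilizer_of_transitive, hS, Nat.card_eq_fintype_card (α := Ω), hΩ] at hG
        have hdvd := Subgroup.card_subgroup_dvd_card H
        rw [← hH, ← hG] at hdvd
        exact absurd (Nat.dvd_of_mul_dvd_mul_left (by norm_num) hdvd) (by norm_num)
      · have h1 : ∀ y, Γ.Adj (e 0) (e y) ↔ ladj 0 y := fun y => by
          rcases eq_or_ne y 0 with rfl | hy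
          · exact iff_of_false (hirr _) (ladj_irrefl _)
          by_cases hl : ladj 0 y
          · exact iff_of_true ((h0 y yn hy hyn0 (iff_of_true hl hyn)).2 hn) hl
          · exact iff_of_false (fun h => hf ((h0 y yf hy hyf0 (iff_of_false hl hyf)).1 h)) hl
        intro x y
        obtain ⟨g, hg, rfl⟩ := exists_move_zero x
        rw [show y = g (g⁻¹ y) by simp, hAinv g hg, ladj_smul hg, h1]
    · exfalso
      by_cases hf : Γ.Adj (e 0) (e yf)
      · have hset : (Finset.univ.filter fun y => Γ.Adj (e 0) (e y)) =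
            (Finset.univ.filter fun y => ¬ ladj 0 y).erase 0 := by
          ext y
          simp only [Finset.mem_filter, Finset.mem_univ, true_and, Finset.mem_erase]
          refine ⟨fun h => ⟨hne0 h, fun hl => hn ((h0 y yn (hne0 h) hyn0 (iff_of_true hl hyn)).1 h)⟩,
            fun ⟨hy, hl⟩ => (h0 y yf hy hyf0 (iff_of_false hl hyf)).2 hf⟩
        rw [hset, hfar81] at hlam'
        have := hedge.1
        rw [hlam'] at this
        omega
      · have hset : (Finset.univ.filter fun y => Γ.Adj (e 0) (e y)) = ∅ := by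
          refine Finset.filter_eq_empty_iff.2 fun y _ h => ?_
          by_cases hl : ladj 0 y
          · exact hn ((h0 y yn (hne0 h) hyn0 (iff_of_true hl hyn)).1 h)
          · exact hf ((h0 y yf (hne0 h) hyf0 (iff_of_false hl hyf)).1 h)
        rw [hset, Finset.card_empty] at hlam'
        have := hedge.1
        rw [hlam'] at this
        omega
  have hlam30 : lam = 30 := by
    rw [← near_card_zero, ← Set.ncard_coe_finset]
    show {y | Γ.Adj (e 0) (e y)}.ncard = _
    congr 1
    ext y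
    simp [hA]
  have hmu : ∀ z ∈ orbit ↥S c, {w | Γ.Adj a w ∧ Γ.Adj z w}.ncard = 56 := by
    rintro _ ⟨s, rfl⟩
    rw [hcc]
    have := hedge.1
    rw [hlam30] at this
    omega
  have hlam' : ∀ u v, Γ.Adj u v → {z | Γ.Adj u z ∧ Γ.Adj v z}.ncard = 30 := by
    intro u v huv
    obtain ⟨g, rfl⟩ := exists_smul_eq (↥G) a u
    rw [show v = g • (g⁻¹ • v) from (smul_inv_smul g v).symm, hinv] at huv
    obtain ⟨x, hx⟩ := he_surj _ huv
    rw [hcount g, ← hlam30, ← hlam x, hx]
    congr 1
    ext z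
    show Γ.Adj (g • a) (g • z) ∧ Γ.Adj v (g • z) ↔ _
    rw [hinv, show Γ.Adj v (g • z) ↔ Γ.Adj (g⁻¹ • v) z by rw [← hinv g (g⁻¹ • v) z, smul_inv_smul]]
    rfl
  -- a clique of five is met twice by every other point
  have hfive : ∀ (C5 : Finset Ω), C5.card = 5 → (∀ u ∈ C5, ∀ v ∈ C5, u ≠ v → Γ.Adj u v) →
      ∀ z ∉ C5, (C5.filter fun u => Γ.Adj u z).card = 2 := by
    intro C5 h5 hcl
    let f : Ω → ℤ := fun z => ((C5.filter fun u => Γ.Adj u z).card : ℤ)
    have hnb : ∀ u ∈ C5, ((C5ᶜ).filter fun z => Γ.Adj u z).card = 108 := by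
      intro u hu
      have hin : C5.filter (fun z => Γ.Adj u z) = C5.erase u := by
        ext z
        simp only [Finset.mem_filter, Finset.mem_erase]
        constructor
        · rintro ⟨h1, h2⟩
          exact ⟨(Γ.ne_of_adj h2).symm, h1⟩
        · rintro ⟨h1, h2⟩
          exact ⟨h2, hcl u hu z h2 (Ne.symm h1)⟩
      have htot := Finset.card_filter_add_card_filter_not (s := Finset.univ.filter fun z => Γ.Adj u z)
        (fun z => z ∈ C5)
      have hd : (Finset.univ.filter fun z => Γ.Adj u z).card = 112 := by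
        rw [← hdeg u, ← Set.ncard_coe_finset]; simp
      rw [hd, Finset.filter_filter, Finset.filter_filter] at htot
      have e1 : (Finset.univ.filter fun z => Γ.Adj u z ∧ z ∈ C5) = C5.filter (fun z => Γ.Adj u z) := by
        ext z; simp [and_comm]
      have e2 : (Finset.univ.filter fun z => Γ.Adj u z ∧ ¬ z ∈ C5) = (C5ᶜ).filter (fun z => Γ.Adj u z) := by
        ext z; simp [and_comm]
      rw [e1, e2, hin, Finset.card_erase_of_mem hu, h5] at htot
      omega
    have hpr : ∀ u ∈ C5, ∀ v ∈ C5, u ≠ v → ((C5ᶜ).filter fun z => Γ.Adj u z ∧ Γ.Adj v z).card = 27 := by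
      intro u hu v hv huv
      have hin : C5.filter (fun z => Γ.Adj u z ∧ Γ.Adj v z) = (C5.erase u).erase v := by
        ext z
        simp only [Finset.mem_filter, Finset.mem_erase]
        constructor
        · rintro ⟨h1, h2, h3⟩
          exact ⟨(Γ.ne_of_adj h3).symm, (Γ.ne_of_adj h2).symm, h1⟩
        · rintro ⟨h1, h2, h3⟩
          exact ⟨h3, hcl u hu z h3 (Ne.symm h2), hcl v hv z h3 (Ne.symm h1)⟩
      have htot := Finset.card_filter_add_card_filter_not
        (s := Finset.univ.filter fun z => Γ.Adj u z ∧ Γ.Adj v z) (fun z => z ∈ C5)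
      have hd : (Finset.univ.filter fun z => Γ.Adj u z ∧ Γ.Adj v z).card = 30 := by
        rw [← hlam' u v (hcl u hu v hv huv), ← Set.ncard_coe_finset]; simp
      rw [hd, Finset.filter_filter, Finset.filter_filter] at htot
      have e1 : (Finset.univ.filter fun z => (Γ.Adj u z ∧ Γ.Adj v z) ∧ z ∈ C5) =
          C5.filter (fun z => Γ.Adj u z ∧ Γ.Adj v z) := by
        ext z; simp [and_comm]
      have e2 : (Finset.univ.filter fun z => (Γ.Adj u z ∧ Γ.Adj v z) ∧ ¬ z ∈ C5) =
          (C5ᶜ).filter (fun z => Γ.Adj u z ∧ Γ.Adj v z) := by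
        ext z; simp [and_comm]
      rw [e1, e2, hin, Finset.card_erase_of_mem (Finset.mem_erase.2 ⟨Ne.symm huv, hv⟩),
        Finset.card_erase_of_mem hu, h5] at htot
      omega
    have hs1 : ∑ z ∈ C5ᶜ, f z = 540 := by
      simp only [f]
      rw [← Nat.cast_sum]
      have h := Finset.sum_card_bipartiteAbove_eq_sum_card_bipartiteBelow (fun u z => Γ.Adj u z) (s := C5) (t := C5ᶜ)
      simp only [Finset.bipartiteAbove, Finset.bipartiteBelow] at h
      rw [← h, Finset.sum_congr rfl hnb, Finset.sum_const, h5]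
      norm_num
    have hs2 : ∑ z ∈ C5ᶜ, f z ^ 2 = 1080 := by
      have hsq : ∀ z, f z ^ 2 = (((C5 ×ˢ C5).filter fun p => Γ.Adj p.1 z ∧ Γ.Adj p.2 z).card : ℤ) := by
        intro z
        simp only [f]
        rw [Finset.filter_product (fun u => Γ.Adj u z) (fun u => Γ.Adj u z), Finset.card_product, Nat.cast_mul, sq]
      simp only [hsq]
      rw [← Nat.cast_sum]
      have h := Finset.sum_card_bipartiteAbove_eq_sum_card_bipartiteBelow
        (fun p z => Γ.Adj p.1 z ∧ Γ.Adj p.2 z) (s := C5 ×ˢ C5) (t := C5ᶜ)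
      simp only [Finset.bipartiteAbove, Finset.bipartiteBelow] at h
      rw [← h, Finset.sum_product]
      have hrow : ∀ u ∈ C5, (∑ v ∈ C5, ((C5ᶜ).filter fun z => Γ.Adj u z ∧ Γ.Adj v z).card) = 216 := by
        intro u hu
        rw [← Finset.sum_erase_add _ _ hu,
          Finset.sum_congr rfl (g := fun _ => 27) (fun v hv =>
            hpr u hu v (Finset.mem_of_mem_erase hv) (Ne.symm (Finset.ne_of_mem_erase hv))),
          Finset.sum_const, Finset.card_erase_of_mem hu, h5]
        simp only [and_self, hnb u hu]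
        rfl
      rw [Finset.sum_congr rfl hrow, Finset.sum_const, h5]
      norm_num
    have hzero : ∑ z ∈ C5ᶜ, (f z - 2) ^ 2 = 0 := by
      have : ∀ z, (f z - 2) ^ 2 = f z ^ 2 - 4 * f z + 4 := fun z => by ring
      simp only [this, Finset.sum_add_distrib, Finset.sum_sub_distrib, ← Finset.mul_sum, hs1, hs2,
        Finset.sum_const, Finset.card_compl, h5, hΩ]
      norm_num
    intro z hz
    have h0 := (Finset.sum_eq_zero_iff_of_nonneg fun w _ => sq_nonneg (f w - 2)).1 hzero z
      (Finset.mem_compl.2 hz)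
    have h2 : f z = 2 := by
      have := pow_eq_zero_iff (n := 2) (by norm_num) |>.1 h0
      linarith
    simp only [f] at h2
    exact_mod_cast h2
  -- the hemisystems of the far points
  let B : Ω → Finset (Fin 112) := fun z => Finset.univ.filter fun x => Γ.Adj z (e x)
  have hB_mem : ∀ z x, x ∈ B z ↔ Γ.Adj z (e x) := fun z x => by simp [B]
  have hB_eq : ∀ (s : ↥S) (z : Ω), B (s • z) = (ψ s : Equiv.Perm (Fin 112)) • B z := by
    intro s z
    ext x
    rw [← Finset.inv_smul_mem_iff, hB_mem, hB_mem, Equiv.Perm.smul_def, ← hinv s.1 z (e _)]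
    show _ ↔ Γ.Adj (s.1 • z) (s • e _)
    rw [he_eq]
    simp
    rfl
  have hB_card : ∀ z ∈ orbit ↥S c, (B z).card = 56 := by
    intro z hz
    rw [← hmu z hz, ← Set.ncard_coe_finset, ← Set.ncard_image_of_injective _ he_inj]
    congr 1
    ext w
    simp only [Set.mem_image, Finset.mem_coe, hB_mem, Set.mem_ofPred_eq]
    constructor
    · rintro ⟨x, hx, rfl⟩; exact ⟨he_adj x, hx⟩
    · rintro ⟨h1, h2⟩
      obtain ⟨x, rfl⟩ := he_surj w h1
      exact ⟨x, h2, rfl⟩
  have hB_hemi : ∀ z ∈ orbit ↥S c, IsHemi (B z) := by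
    intro z hz j hj
    let C5 : Finset Ω := insert a ((cliqueAt j).image e)
    have ha : a ∉ (cliqueAt j).image e := fun h => by
      obtain ⟨x, -, hx⟩ := Finset.mem_image.1 h
      exact hirr a (hx ▸ he_adj x)
    have hz' : ¬ Γ.Adj a z := fun h => Set.disjoint_left.1 hbc ((hadj_a z).1 h) hz
    have h2 := hfive C5 (by rw [Finset.card_insert_of_notMem ha, Finset.card_image_of_injective _ he_inj,
      clique_card hj]) ?_ z ?_
    · rw [← h2, Finset.filter_insert, if_neg hz', Finset.filter_image,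
        Finset.card_image_of_injective _ he_inj]
      congr 1
      ext x
      simp [hB_mem, and_comm, Γ.adj_comm z]
    · intro u hu v hv huv
      simp only [C5, Finset.mem_insert, Finset.mem_image] at hu hv
      rcases hu with rfl | ⟨x, hx, rfl⟩ <;> rcases hv with rfl | ⟨y, hy, rfl⟩
      · exact absurd rfl huv
      · exact he_adj y
      · exact (he_adj x).symm
      · exact (hA x y).2 (clique_adj hj hx hy fun h => huv (h ▸ rfl))
    · simp only [C5, Finset.mem_insert, Finset.mem_image, not_or, not_exists, not_and]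
      refine ⟨fun h => hac (h ▸ hz), fun x _ h => hz' ?_⟩
      rw [← h]
      exact he_adj x
  -- an element of order seven
  obtain ⟨c₀, j, hj, hc₀, hBc₀⟩ : ∃ c₀ j, j < 4 ∧ c₀ ∈ orbit ↥S c ∧ B c₀ = rootT j := by
    haveI : Fact (Nat.Prime 7) := ⟨by norm_num⟩
    have hst : Nat.card ↥(stabilizer ↥S c) = 20160 := by
      have := (stabilizer ↥S c).card_mul_index
      rw [index_stabilizer, hc, hS] at this
      omega
    obtain ⟨q, hq⟩ := exists_prime_orderOf_dvd_card' (G := ↥(stabilizer ↥S c)) 7 (by rw [hst]; norm_num)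
    let t : ↥lineGroup := ψ q.1
    have ht : orderOf t = 7 := by
      show orderOf (ψ q.1) = 7
      rw [MulEquiv.orderOf_eq, Subgroup.orderOf_coe, hq]
    let p : ↥lineGroup := ⟨wordP seven, wordP_mem _⟩
    have hp : orderOf p = 7 := by
      obtain ⟨h7, h1, -⟩ := seven_check
      refine orderOf_eq_prime (Subtype.ext (Equiv.ext fun x => Fin.ext ?_)) ?_
      · have := List.all_eq_true.1 h7 x.val (List.mem_range.2 x.isLt)
        rw [decide_eq_true_eq] at this
        show ((wordP seven ^ 7) x).val = x.val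
        simp only [pow_succ, pow_zero, one_mul, Equiv.Perm.mul_apply, wordP_val]
        exact this
      · intro h
        refine h1 ?_
        have := congrArg (fun g : ↥lineGroup => ((g : Equiv.Perm (Fin 112)) 0).val) h
        simp only [p, wordP_val, Subgroup.coe_one, Equiv.Perm.one_apply, Fin.val_zero] at this
        exact this
    have hfac : (7 : ℕ) = 7 ^ (Nat.card ↥lineGroup).factorization 7 := by
      rw [hcard, show (3265920 : ℕ) = 466560 * 7 by norm_num, Nat.factorization_mul (by norm_num) (by norm_num),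
        Finsupp.add_apply, Nat.factorization_eq_zero_of_not_dvd (by norm_num),
        Nat.Prime.factorization_self (by norm_num : Nat.Prime 7)]
      norm_num
    let P1 : Sylow 7 ↥lineGroup := Sylow.ofCard (Subgroup.zpowers t) ((Nat.card_zpowers t).trans (ht.trans hfac))
    let P2 : Sylow 7 ↥lineGroup := Sylow.ofCard (Subgroup.zpowers p) ((Nat.card_zpowers p).trans (hp.trans hfac))
    obtain ⟨h, hh⟩ := exists_smul_eq ↥lineGroup P1 P2
    have hmem : p ∈ ((h • P1 : Sylow 7 ↥lineGroup) : Subgroup ↥lineGroup) := by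
      rw [hh]; exact Subgroup.mem_zpowers p
    rw [Sylow.coe_subgroup_smul, Subgroup.mem_pointwise_smul_iff_inv_smul_mem] at hmem
    obtain ⟨k, hk⟩ := Subgroup.mem_zpowers_iff.1 hmem
    rw [MulAut.smul_def, MulAut.conj_inv_apply] at hk
    have hfix : ((t ^ k : ↥lineGroup) : Equiv.Perm (Fin 112)) • B c = B c := by
      have hq' : q.1 ^ k • c = c := by
        have := (q ^ k).2
        simpa using this
      have := hB_eq (q.1 ^ k) c
      rw [hq', map_zpow] at this
      exact this.symm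
    rw [hk] at hfix
    have hc' : ψ.symm h • c ∈ orbit ↥S c := mem_orbit _ _
    have hB' : B (ψ.symm h • c) = (h : Equiv.Perm (Fin 112)) • B c := by rw [hB_eq, ψ.apply_symm_apply]
    have hinvB : wordP seven • B (ψ.symm h • c) = B (ψ.symm h • c) := by
      rw [hB']
      conv_rhs => rw [← hfix]
      rw [← mul_smul, ← mul_smul]
      congr 1
      show wordP seven * (h : Equiv.Perm (Fin 112)) = _
      rw [Subgroup.coe_mul, Subgroup.coe_mul, Subgroup.coe_inv]
      show _ = (h : Equiv.Perm (Fin 112)) * ((h : Equiv.Perm (Fin 112))⁻¹ * wordP seven * h)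
      group
    obtain ⟨j, hj, hje⟩ := exists_root_of_seven (hB_hemi _ hc') hinvB
    exact ⟨_, j, hj, hc', hje⟩
  have horbc : orbit ↥S c₀ = orbit ↥S c := orbit_eq_iff.2 hc₀
  obtain ⟨horbj, hnj⟩ := fam_orbit hj
  have hBmem : ∀ z ∈ orbit ↥S c, B z ∈ orbit ↥lineGroup (rootT j) := by
    intro z hz
    rw [← horbc] at hz
    obtain ⟨s, rfl⟩ := hz
    refine ⟨ψ s, ?_⟩
    show (ψ s : Equiv.Perm (Fin 112)) • rootT j = B (s • c₀)
    rw [hB_eq, hBc₀]
  have hBimg : B '' orbit ↥S c = orbit ↥lineGroup (rootT j) := by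
    refine Set.Subset.antisymm (by rintro _ ⟨z, hz, rfl⟩; exact hBmem z hz) ?_
    rintro _ ⟨g, rfl⟩
    refine ⟨ψ.symm g • c₀, ?_, ?_⟩
    · rw [← horbc]; exact mem_orbit _ _
    · rw [hB_eq, ψ.apply_symm_apply, hBc₀]; rfl
  have hBinj : Set.InjOn B (orbit ↥S c) :=
    Set.injOn_of_ncard_image_eq (by rw [hBimg, hnj, hc]) (Set.toFinite _)
  -- the neighbours of the far point among the far points
  have hnear : ∀ z ∈ orbit ↥S c, (Γ.Adj c₀ z ↔ B z ∈ nearSet j) := by
    let D : Set Ω := {z | z ∈ orbit ↥S c ∧ Γ.Adj c₀ z}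
    have hD : D.ncard = 56 := by
      have hu : {z | Γ.Adj c₀ z} = {z | Γ.Adj a z ∧ Γ.Adj c₀ z} ∪ D := by
        ext z
        simp only [D, Set.mem_union, Set.mem_ofPred_eq]
        refine ⟨fun h => ?_, fun h => h.elim (·.2) (·.2)⟩
        rcases hcover z with h' | h' | h'
        · exact absurd ((hadj_a c₀).1 ((h' ▸ h : Γ.Adj c₀ a).symm)) fun hb' => Set.disjoint_left.1 hbc hb' hc₀
        · exact Or.inl ⟨(hadj_a z).2 h', h⟩
        · exact Or.inr ⟨h', h⟩
      have := hdeg c₀
      rw [hu, Set.ncard_union_eq (by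
        rw [Set.disjoint_left]; exact fun z h1 h2 => Set.disjoint_left.1 hbc ((hadj_a z).1 h1.1) h2.1),
        hmu c₀ hc₀] at this
      omega
    have hkey := eq_nearSet hj (B '' D) ?_ ?_ ?_ ?_
    · intro z hz
      rw [← hkey]
      exact ⟨fun h => ⟨z, ⟨hz, h⟩, rfl⟩, fun ⟨w, ⟨hw, hw'⟩, he'⟩ => hBinj hw hz he' ▸ hw'⟩
    · rintro _ ⟨z, hz, rfl⟩; exact hBmem z hz.1
    · rintro ⟨z, ⟨hz, hz'⟩, he'⟩
      rw [← hBc₀] at he'
      exact hirr c₀ (hBinj hz hc₀ he' ▸ hz')
    · rintro g hg hgr _ ⟨z, ⟨hz, hz'⟩, rfl⟩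
      let s : ↥S := ψ.symm ⟨g, hg⟩
      have hs : ∀ w, B (s • w) = g • B w := fun w => by rw [hB_eq]; simp [s]
      have hsc : s • c₀ = c₀ := hBinj (by rw [← horbc]; exact mem_orbit _ _) hc₀ (by rw [hs, hBc₀, hgr])
      refine ⟨s • z, ⟨mem_orbit_of_mem_orbit s hz, ?_⟩, hs z⟩
      rw [← hsc]
      exact (hinv s.1 c₀ z).2 hz'
    · rw [Set.ncard_image_of_injOn (hBinj.mono fun z hz => hz.1), hD]
  obtain ⟨hσval, hσadj, hσconj, hσfam⟩ := shift_data hj
  set σ := shiftP j with hσdef
  have hfamrel : ∀ u ∈ orbit ↥S c, ∀ z ∈ orbit ↥S c, (Γ.Adj u z ↔ famRel (σ • B u) (σ • B z)) := by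
    intro u hu z hz
    rw [← horbc] at hu
    obtain ⟨s, rfl⟩ := hu
    have hz' : s⁻¹ • z ∈ orbit ↥S c := mem_orbit_of_mem_orbit s⁻¹ hz
    have h1 : Γ.Adj (s • c₀) z ↔ Γ.Adj c₀ (s⁻¹ • z) := by
      conv_rhs => rw [← hinv s.1, show s.1 • (s⁻¹ • z) = z from smul_inv_smul s z]
      rfl
    have hmem0 : σ • rootT j ∈ orbit ↥lineGroup (rootT 0) := shift_orbit hj (mem_orbit_self _)
    have hmem1 := shift_orbit hj (hBmem _ hz')
    rw [h1, hnear _ hz', ← famRel_root hj (hBmem _ hz'), ← hBc₀, hB_eq]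
    have hg := hσconj _ (ψ s).2
    have hinvs : σ • B (s • c₀) = (σ * (ψ s : Equiv.Perm (Fin 112)) * σ⁻¹) • (σ • B c₀) := by
      rw [hB_eq, ← mul_smul, ← mul_smul]
      congr 1
      group
    have hz2 : σ • B z = (σ * (ψ s : Equiv.Perm (Fin 112)) * σ⁻¹) • (σ • B (s⁻¹ • z)) := by
      rw [hB_eq, map_inv, Subgroup.coe_inv, ← mul_smul, ← mul_smul]
      rw [show σ * (ψ s : Equiv.Perm (Fin 112)) * σ⁻¹ * σ * (ψ s : Equiv.Perm (Fin 112))⁻¹ = σ by group]
    rw [hinvs, hz2, famRel_smul hg (by rw [hBc₀]; exact hmem0) hmem1, ← hB_eq]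
  -- the map
  let χ₀ : Ω → Fin 275 := fun z =>
    if z = a then 0 else if hz : z ∈ orbit ↥S b then mLine (σ (φ ⟨z, hz⟩)) else mFam (famIndex (σ • B z))
  have hχa : χ₀ a = 0 := by simp [χ₀]
  have hχb : ∀ x, χ₀ (e x) = mLine (σ x) := fun x => by
    simp only [χ₀, if_neg (show e x ≠ a from fun h => hirr a (h ▸ he_adj x)), dif_pos (he_mem x)]
    simp [e]
  have hχc : ∀ z ∈ orbit ↥S c, χ₀ z = mFam (famIndex (σ • B z)) := fun z hz => by
    simp only [χ₀, if_neg (show z ≠ a from fun h => hac (h ▸ hz)),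
      dif_neg (fun h => Set.disjoint_left.1 hbc h hz)]
  have hidx : ∀ z ∈ orbit ↥S c, famT 0 (famIndex (σ • B z)).val = σ • B z := by
    intro z hz
    have h0 := shift_orbit hj (hBmem z hz)
    rw [(fam_orbit (show 0 < 4 by norm_num)).1] at h0
    obtain ⟨i, hi, hie⟩ := h0
    rw [← hie, famIndex_famT ⟨i, hi⟩]
  have hcases : ∀ z, z = a ∨ (∃ x, e x = z) ∨ z ∈ orbit ↥S c := fun z => by
    rcases hcover z with h | h | h
    exacts [Or.inl h, Or.inr (Or.inl (he_surj z ((hadj_a z).2 h))), Or.inr (Or.inr h)]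
  have hχinj : Function.Injective χ₀ := by
    intro u v h
    rcases hcases u with rfl | ⟨x, rfl⟩ | hu <;> rcases hcases v with rfl | ⟨y, rfl⟩ | hv
    · rfl
    · rw [hχa, hχb] at h; have := congrArg Fin.val h; simp only [mLine, Fin.val_zero] at this; omega
    · rw [hχa, hχc _ hv] at h; have := congrArg Fin.val h; simp only [mFam, Fin.val_zero] at this; omega
    · rw [hχa, hχb] at h; have := congrArg Fin.val h; simp only [mLine, Fin.val_zero] at this; omega
    · rw [hχb, hχb] at h
      have := congrArg Fin.val h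
      simp only [mLine] at this
      rw [σ.injective (Fin.ext (by omega : (σ x).val = (σ y).val))]
    · rw [hχb, hχc _ hv] at h; have := congrArg Fin.val h; simp only [mLine, mFam] at this; omega
    · rw [hχa, hχc _ hu] at h; have := congrArg Fin.val h; simp only [mFam, Fin.val_zero] at this; omega
    · rw [hχb, hχc _ hu] at h; have := congrArg Fin.val h; simp only [mLine, mFam] at this; omega
    · rw [hχc _ hu, hχc _ hv] at h
      have := congrArg Fin.val h
      simp only [mFam] at this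
      refine hBinj hu hv (smul_left_cancel σ ?_)
      rw [← hidx u hu, ← hidx v hv, show (famIndex (σ • B u)).val = (famIndex (σ • B v)).val by omega]
  have hχbij : Function.Bijective χ₀ :=
    (Fintype.bijective_iff_injective_and_card χ₀).2 ⟨hχinj, by rw [hΩ, Fintype.card_fin]⟩
  let χ : Ω ≃ Fin 275 := Equiv.ofBijective χ₀ hχbij
  have hline : ∀ x y, Γ.Adj (e x) y → y ∈ orbit ↥S c → x ∈ B y := fun x y h _ => (hB_mem y x).2 h.symm
  have hadjiff : ∀ u v, Γ.Adj u v ↔ madj (χ₀ u) (χ₀ v) := by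
    intro u v
    rcases hcases u with rfl | ⟨x, rfl⟩ | hu <;> rcases hcases v with rfl | ⟨y, rfl⟩ | hv
    · rw [hχa]; exact iff_of_false (hirr _) madj_zero
    · rw [hχa, hχb]; exact iff_of_true (he_adj y) (madj_lines _).1
    · rw [hχa, hχc _ hv]
      exact iff_of_false (fun h => Set.disjoint_left.1 hbc ((hadj_a _).1 h) hv) (madj_fams _).1
    · rw [hχa, hχb]; exact iff_of_true (he_adj x).symm (madj_lines _).2.1
    · rw [hχb, hχb, (madj_lines _).2.2.1, hσadj, hA]
    · rw [hχb, hχc _ hv, (madj_lines _).2.2.2, hidx v hv, ← Finset.inv_smul_mem_iff, Equiv.Perm.smul_def]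
      simp [hB_mem, Γ.adj_comm v]
    · rw [hχa, hχc _ hu]
      exact iff_of_false (fun h => Set.disjoint_left.1 hbc ((hadj_a _).1 h.symm) hu) (madj_fams _).2.1
    · rw [hχb, hχc _ hu, (madj_fams _).2.2, hidx u hu, ← Finset.inv_smul_mem_iff, Equiv.Perm.smul_def]
      simp [hB_mem]
    · rw [hχc _ hu, hχc _ hv, hfamrel u hu v hv]
      rfl
  have hsymm : ∀ x, χ.symm (mLine x) = e (σ⁻¹ x) := fun x => by
    rw [Equiv.symm_apply_eq]
    show mLine x = χ₀ _
    rw [hχb]
    simp
  refine ⟨χ, hχa, fun g x y => ?_, fun s => ?_, fun x y => ?_, fun i k => ?_⟩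
  · show madj (χ₀ (g • x)) (χ₀ (g • y)) ↔ madj (χ₀ x) (χ₀ y)
    rw [← hadjiff, ← hadjiff, hinv]
  · refine ⟨σ * (ψ s : Equiv.Perm (Fin 112)) * σ⁻¹, hσconj _ (ψ s).2, fun x => ?_⟩
    show χ₀ _ = _
    rw [hsymm, he_eq, hχb]
    rfl
  · obtain ⟨s, hs⟩ := exists_smul_eq ↥S (φ.symm (σ⁻¹ x)) (φ.symm (σ⁻¹ y))
    refine ⟨s, ?_⟩
    show χ₀ _ = _
    rw [hsymm, show s • e (σ⁻¹ x) = e (σ⁻¹ y) from congrArg Subtype.val hs, hχb]
    simp
  · have hmem : ∀ i : Fin 162, χ.symm (mFam i) ∈ orbit ↥S c := by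
      intro i
      have hi : χ₀ (χ.symm (mFam i)) = mFam i := χ.apply_symm_apply _
      rcases hcases (χ.symm (mFam i)) with h | ⟨x, h⟩ | h
      · rw [h, hχa] at hi; have := congrArg Fin.val hi; simp only [mFam, Fin.val_zero] at this; omega
      · rw [← h, hχb] at hi; have := congrArg Fin.val hi; simp only [mLine, mFam] at this; omega
      · exact h
    obtain ⟨s1, hs1⟩ := hmem i
    obtain ⟨s2, hs2⟩ := hmem k
    refine ⟨s2 * s1⁻¹, ?_⟩
    rw [← hs1, mul_smul, inv_smul_smul]
    show χ (s2 • c) = mFam k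
    rw [show s2 • c = χ.symm (mFam k) from hs2, χ.apply_symm_apply]

end CfsgLib.Recog.McLRankThree
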