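import Cfsg.Agent.Lib.Recog.McLRankThree.Checks

/-!
# The graph of the 112 lines, its cliques, and the transitive actions on 112 points
-/

set_option autoImplicit false

namespace CfsgLib.Recog.McLRankThree

open MulAction
open scoped Pointwise

/-- Adjacency of lines. -/
def ladj (x y : Fin 112) : Prop := adjB x.val y.val = true

instance ladjDecidable : DecidableRel ladj := fun x y => inferInstanceAs (Decidable (adjB x.val y.val = true))

theorem lineAt_val (x : Fin 112) : lineAt x.val = x := Fin.ext (Nat.mod_eq_of_lt x.isLt)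

theorem adj_basic_at (x : Fin 112) : adjB x.val x.val = false ∧
    (∀ y : Fin 112, adjB x.val y.val = adjB y.val x.val) ∧
    ∀ k < 4, imgOK [k] (lineNbrs.getD x.val 0) (lineNbrs.getD (genN k x.val) 0) = true := by
  have h := List.all_eq_true.1 adj_basic x.val (List.mem_range.2 x.isLt)
  simp only [Bool.and_eq_true, Bool.not_eq_true', decide_eq_true_eq, List.all_eq_true, List.mem_range,
    beq_iff_eq] at h
  exact ⟨h.1.1.1, fun y => h.1.2 y.val y.isLt, h.2⟩

theorem ladj_irrefl (x : Fin 112) : ¬ ladj x x := by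
  simp [ladj, (adj_basic_at x).1]

theorem ladj_symm {x y : Fin 112} (h : ladj x y) : ladj y x := by
  unfold ladj at h ⊢
  rwa [← (adj_basic_at x).2.1 y]

/-- The permutations keeping adjacency. -/
def adjGroup : Subgroup (Equiv.Perm (Fin 112)) where
  carrier := {g | ∀ x y, ladj (g x) (g y) ↔ ladj x y}
  one_mem' x y := Iff.rfl
  mul_mem' {g h} hg hh x y := by rw [Equiv.Perm.mul_apply, Equiv.Perm.mul_apply, hg, hh]
  inv_mem' {g} hg x y := by
    rw [← hg (g⁻¹ x) (g⁻¹ y)]
    simp

theorem genN_mod (k x : ℕ) : genN (k % 4) x = genN k x := by simp [genN]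

theorem lineGroup_le_adjGroup : lineGroup ≤ adjGroup := by
  refine (Subgroup.closure_le _).2 ?_
  rintro _ ⟨k, rfl⟩ x y
  have h := Nat.eq_of_beq_eq_true ((adj_basic_at x).2.2 (k % 4) (Nat.mod_lt _ (by norm_num)))
  have h1 := testBit_runM [k % 4] (lineNbrs.getD x.val 0) y
  rw [h] at h1
  simp only [wordN, genN_mod] at h1
  unfold ladj adjB
  rw [genP_val, genP_val, h1]

theorem ladj_smul {g : Equiv.Perm (Fin 112)} (hg : g ∈ lineGroup) (x y : Fin 112) :
    ladj (g x) (g y) ↔ ladj x y := lineGroup_le_adjGroup hg x y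

theorem exists_move_zero (x : Fin 112) : ∃ g ∈ lineGroup, g 0 = x := by
  obtain ⟨hl, -, -, ⟨hlen, h0⟩, -⟩ := line_lists
  have h := List.all_eq_true.1 hl x.val (List.mem_range.2 x.isLt)
  simp only [Bool.and_eq_true] at h
  obtain ⟨j, hj, hjx⟩ := List.getElem_of_mem (List.contains_iff_mem.1 h.1)
  obtain ⟨g, hg, hgx⟩ := (orbit_lines genWords lineOrder 112 lineNext linePar (by decide) line_tree).1 j
    (by omega)
  rw [lineGroup_eq] at hg
  refine ⟨g, hg, ?_⟩
  rw [List.getD_eq_getElem _ _ hj, hjx, h0, lineAt_val] at hgx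
  exact hgx

theorem stab_fix {g : Equiv.Perm (Fin 112)}
    (hg : g ∈ Subgroup.closure {p | p ∈ stabWords.map wordP}) : g ∈ lineGroup ∧ g 0 = 0 := by
  refine ⟨closure_le_lineGroup _ hg, ?_⟩
  have : Subgroup.closure {p | p ∈ stabWords.map wordP} ≤ stabilizer (Equiv.Perm (Fin 112)) (0 : Fin 112) := by
    refine (Subgroup.closure_le _).2 ?_
    intro p hp
    obtain ⟨w, hw, rfl⟩ := List.mem_map.1 (show p ∈ stabWords.map wordP from hp)
    have := List.all_eq_true.1 line_lists.2.1 w hw
    exact mem_stabilizer_iff.2 (Fin.ext ((wordP_val w 0).trans (of_decide_eq_true this)))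
  exact this hg

theorem exists_near {x y : Fin 112} (hx : ladj 0 x) (hy : ladj 0 y) :
    ∃ g ∈ lineGroup, g 0 = 0 ∧ g x = y := by
  obtain ⟨hl, -, hs, -, ⟨hlen, -⟩, -⟩ := line_lists
  have key : ∀ z : Fin 112, ladj 0 z → ∃ g ∈ Subgroup.closure {p | p ∈ stabWords.map wordP},
      g (lineAt (nearOrder.getD 0 0)) = z := by
    intro z hz
    have h := List.all_eq_true.1 hl z.val (List.mem_range.2 z.isLt)
    have hz0 : z.val ≠ 0 := fun e => ladj_irrefl 0 (by rwa [show z = 0 from Fin.ext e] at hz)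
    simp only [Bool.and_eq_true, Bool.or_eq_true, decide_eq_true_eq, hz0, false_or,
      show adjB 0 z.val = true from hz, if_true] at h
    obtain ⟨j, hj, hjx⟩ := List.getElem_of_mem (List.contains_iff_mem.1 h.2)
    obtain ⟨g, hg, hgx⟩ := (orbit_lines stabWords nearOrder 30 nearNext nearPar (by omega)
      (by rw [hs]; exact near_tree)).1 j (by omega)
    rw [List.getD_eq_getElem _ _ hj, hjx, lineAt_val] at hgx
    exact ⟨g, hg, hgx⟩
  obtain ⟨g, hg, rfl⟩ := key x hx
  obtain ⟨h, hh, rfl⟩ := key y hy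
  obtain ⟨h1, h2⟩ := stab_fix (mul_mem hh (inv_mem hg))
  exact ⟨_, h1, h2, by simp⟩

theorem exists_far {x y : Fin 112} (hx0 : x ≠ 0) (hy0 : y ≠ 0) (hx : ¬ ladj 0 x) (hy : ¬ ladj 0 y) :
    ∃ g ∈ lineGroup, g 0 = 0 ∧ g x = y := by
  obtain ⟨hl, -, hs, -, ⟨-, hlen⟩, -⟩ := line_lists
  have key : ∀ z : Fin 112, z ≠ 0 → ¬ ladj 0 z → ∃ g ∈ Subgroup.closure {p | p ∈ stabWords.map wordP},
      g (lineAt (farOrder.getD 0 0)) = z := by
    intro z hz0 hz
    have h := List.all_eq_true.1 hl z.val (List.mem_range.2 z.isLt)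
    have hz0' : z.val ≠ 0 := fun e => hz0 (Fin.ext e)
    simp only [Bool.and_eq_true, Bool.or_eq_true, decide_eq_true_eq, hz0', false_or,
      show adjB 0 z.val = false from Bool.eq_false_iff.2 hz, Bool.false_eq_true, if_false] at h
    obtain ⟨j, hj, hjx⟩ := List.getElem_of_mem (List.contains_iff_mem.1 h.2)
    obtain ⟨g, hg, hgx⟩ := (orbit_lines stabWords farOrder 81 farNext farPar (by omega)
      (by rw [hs]; exact far_tree)).1 j (by omega)
    rw [List.getD_eq_getElem _ _ hj, hjx, lineAt_val] at hgx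
    exact ⟨g, hg, hgx⟩
  obtain ⟨g, hg, rfl⟩ := key x hx0 hx
  obtain ⟨h, hh, rfl⟩ := key y hy0 hy
  obtain ⟨h1, h2⟩ := stab_fix (mul_mem hh (inv_mem hg))
  exact ⟨_, h1, h2, by simp⟩

theorem near_card_zero : (Finset.univ.filter fun y => ladj 0 y).card = 30 := by
  have h := line_lists.2.2.2.2.2
  rw [← h, List.countP_eq_length_filter, ← Finset.card_map Fin.valEmbedding,
    ← List.toFinset_card_of_nodup (List.nodup_range.filter _)]
  congr 1

/-- A clique. -/
def cliqueAt (j : ℕ) : Finset (Fin 112) := ofMask (cliqueOrder.getD j 0)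

theorem testBit_orList : ∀ (l : List ℕ) (i : ℕ),
    (l.foldr (fun x m => m ||| 2 ^ x) 0).testBit i = decide (i ∈ l)
  | [], i => by simp
  | a :: l, i => by
    rw [List.foldr_cons, Nat.testBit_or, testBit_orList l, Nat.testBit_two_pow]
    by_cases h1 : i ∈ l <;> by_cases h2 : a = i <;> simp [h1, h2, eq_comm]

theorem clique_data {j : ℕ} (hj : j < 280) : cliqueOrder.getD j 0 < 2 ^ 112 ∧
    (cliquePts.getD j []).Nodup ∧ (cliquePts.getD j []).length = 4 ∧
    (∀ x ∈ cliquePts.getD j [], x < 112 ∧ ∀ y ∈ cliquePts.getD j [], x = y ∨ adjB x y = true) ∧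
    ∀ i : Fin 112, i ∈ cliqueAt j ↔ i.val ∈ cliquePts.getD j [] := by
  have h := List.all_eq_true.1 clique_lists.2.2 j (List.mem_range.2 hj)
  simp only [Bool.and_eq_true, decide_eq_true_eq, List.all_eq_true, Bool.or_eq_true] at h
  refine ⟨h.1.1.1.1, h.1.2, h.1.1.2, h.2, fun i => ?_⟩
  rw [cliqueAt, mem_ofMask, h.1.1.1.2, testBit_orList]
  simp

theorem clique_card {j : ℕ} (hj : j < 280) : (cliqueAt j).card = 4 := by
  obtain ⟨-, hnd, hlen, hadj, hmem⟩ := clique_data hj
  rw [← hlen, ← List.toFinset_card_of_nodup hnd, ← Finset.card_map Fin.valEmbedding]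
  congr 1
  ext n
  simp only [Finset.mem_map, List.mem_toFinset, Fin.valEmbedding_apply]
  exact ⟨by rintro ⟨y, hy, rfl⟩; exact (hmem y).1 hy,
    fun h => ⟨⟨n, (hadj n h).1⟩, (hmem _).2 h, rfl⟩⟩

theorem clique_adj {j : ℕ} (hj : j < 280) {x y : Fin 112} (hx : x ∈ cliqueAt j) (hy : y ∈ cliqueAt j)
    (hne : x ≠ y) : ladj x y := by
  obtain ⟨-, -, -, hadj, hmem⟩ := clique_data hj
  exact ((hadj x.val ((hmem x).1 hx)).2 y.val ((hmem y).1 hy)).resolve_left fun e => hne (Fin.ext e)

/-- A set of pairwise adjacent lines. -/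
def IsClique (T : Finset (Fin 112)) : Prop := ∀ x ∈ T, ∀ y ∈ T, x ≠ y → ladj x y

theorem clique_smul {g : Equiv.Perm (Fin 112)} (hg : g ∈ lineGroup) {T : Finset (Fin 112)} (hT : IsClique T) :
    IsClique (g • T) := by
  intro x hx y hy hne
  rw [← Finset.inv_smul_mem_iff, Equiv.Perm.smul_def] at hx hy
  have h := hT _ hx _ hy fun e => hne (g⁻¹.injective e)
  rw [← ladj_smul hg] at h
  simpa using h

theorem clique_orbit {j : ℕ} (hj : j < 280) :
    ∃ g ∈ lineGroup, g • cliqueAt 0 = cliqueAt j := by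
  obtain ⟨g, hg, h⟩ := (orbit_masks genWords cliqueOrder 280 cliqueNext cliquePar (by decide) clique_tree).1 j hj
  rw [lineGroup_eq] at hg
  exact ⟨g, hg, h⟩

theorem cliqueAt_inj {i j : ℕ} (hi : i < 280) (hj : j < 280) (h : cliqueAt i = cliqueAt j) : i = j := by
  have e : cliqueOrder.getD i 0 = cliqueOrder.getD j 0 := by
    refine Nat.eq_of_testBit_eq fun b => ?_
    rcases Nat.lt_or_ge b 112 with hb | hb
    · have := Finset.ext_iff.1 h ⟨b, hb⟩
      simp only [cliqueAt, mem_ofMask] at this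
      exact Bool.eq_iff_iff.2 this
    · rw [Nat.testBit_lt_two_pow (lt_of_lt_of_le (clique_data hi).1 (Nat.pow_le_pow_right (by norm_num) hb)),
        Nat.testBit_lt_two_pow (lt_of_lt_of_le (clique_data hj).1 (Nat.pow_le_pow_right (by norm_num) hb))]
  rw [List.getD_eq_getElem _ _ (by rw [clique_lists.2.1]; exact hi),
    List.getD_eq_getElem _ _ (by rw [clique_lists.2.1]; exact hj)] at e
  exact (clique_lists.1.getElem_inj_iff).1 e

theorem complete_at {b c d : Fin 112} (h1 : ladj 0 b) (h2 : ladj 0 c) (h3 : ladj b c)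
    (h4 : ladj 0 d) (h5 : ladj b d) (h6 : ladj c d) :
    (∃ j < 280, cliqueAt j = {0, b, c, d}) ∧
      ∀ e : Fin 112, ¬ (ladj 0 e ∧ ladj b e ∧ ladj c e ∧ ladj d e) := by
  have h := List.all_eq_true.1 clique_complete b.val (List.mem_range.2 b.isLt)
  simp only [Bool.or_eq_true, Bool.not_eq_true', List.all_eq_true, List.mem_range] at h
  have h := (h.resolve_left (by simp [show adjB 0 b.val = true from h1])) c.val c.isLt
  simp only [Bool.and_eq_false_iff] at h
  have h := (h.resolve_left (by simp [show adjB 0 c.val = true from h2, show adjB b.val c.val = true from h3]))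
    d.val d.isLt
  simp only [Bool.and_eq_true, List.all_eq_true, List.mem_range] at h
  obtain ⟨hc, he⟩ := h.resolve_left (by
    simp [show adjB 0 d.val = true from h4, show adjB b.val d.val = true from h5,
      show adjB c.val d.val = true from h6])
  constructor
  · obtain ⟨j, hj, hjm⟩ := List.getElem_of_mem (List.contains_iff_mem.1 hc)
    refine ⟨j, by rwa [clique_lists.2.1] at hj, ?_⟩
    ext i
    rw [cliqueAt, List.getD_eq_getElem _ _ hj, hjm, mem_ofMask]
    simp only [Nat.testBit_or, Nat.testBit_two_pow, Bool.or_eq_true, decide_eq_true_eq, Finset.mem_insert,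
      Finset.mem_singleton, Fin.ext_iff, Fin.val_zero]
    omega
  · rintro e ⟨a1, a2, a3, a4⟩
    have := he e.val e.isLt
    simp [show adjB 0 e.val = true from a1, show adjB b.val e.val = true from a2,
      show adjB c.val e.val = true from a3, show adjB d.val e.val = true from a4] at this

theorem clique_card_le {T : Finset (Fin 112)} (hT : IsClique T) : T.card ≤ 4 := by
  by_contra hc
  obtain ⟨x, hx⟩ : T.Nonempty := Finset.card_pos.1 (by omega)
  obtain ⟨g, hg, hgx⟩ := exists_move_zero x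
  have hT' := clique_smul (inv_mem hg) hT
  have h0 : (0 : Fin 112) ∈ g⁻¹ • T := by
    rw [← Finset.inv_smul_mem_iff, inv_inv, Equiv.Perm.smul_def, hgx]; exact hx
  have hc' : 4 < (g⁻¹ • T).card := by rw [Finset.card_smul_finset]; omega
  obtain ⟨b, hb⟩ : ((g⁻¹ • T).erase 0).Nonempty := Finset.card_pos.1 (by
    rw [Finset.card_erase_of_mem h0]; omega)
  obtain ⟨c, hc2⟩ : (((g⁻¹ • T).erase 0).erase b).Nonempty := Finset.card_pos.1 (by
    rw [Finset.card_erase_of_mem hb, Finset.card_erase_of_mem h0]; omega)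
  obtain ⟨d, hd⟩ : ((((g⁻¹ • T).erase 0).erase b).erase c).Nonempty := Finset.card_pos.1 (by
    rw [Finset.card_erase_of_mem hc2, Finset.card_erase_of_mem hb, Finset.card_erase_of_mem h0]; omega)
  obtain ⟨e, he⟩ : (((((g⁻¹ • T).erase 0).erase b).erase c).erase d).Nonempty := Finset.card_pos.1 (by
    rw [Finset.card_erase_of_mem hd, Finset.card_erase_of_mem hc2, Finset.card_erase_of_mem hb,
      Finset.card_erase_of_mem h0]; omega)
  simp only [Finset.mem_erase, ne_eq] at hb hc2 hd he
  have A : ∀ {u v}, u ∈ g⁻¹ • T → v ∈ g⁻¹ • T → ¬ v = u → ladj u v := fun hu hv h => hT' _ hu _ hv (Ne.symm h)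
  exact (complete_at (A h0 hb.2 hb.1) (A h0 hc2.2.2 hc2.2.1) (A hb.2 hc2.2.2 hc2.1) (A h0 hd.2.2.2 hd.2.2.1)
    (A hb.2 hd.2.2.2 hd.2.1) (A hc2.2.2 hd.2.2.2 hd.1)).2 e
    ⟨A h0 he.2.2.2.2 he.2.2.2.1, A hb.2 he.2.2.2.2 he.2.2.1, A hc2.2.2 he.2.2.2.2 he.2.1,
      A hd.2.2.2 he.2.2.2.2 he.1⟩

theorem exists_clique {T : Finset (Fin 112)} (hT : IsClique T) (hcard : T.card = 4) (h0 : 0 ∈ T) :
    ∃ j < 280, T = cliqueAt j := by
  obtain ⟨b, hb⟩ : (T.erase 0).Nonempty := Finset.card_pos.1 (by rw [Finset.card_erase_of_mem h0]; omega)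
  obtain ⟨c, hc⟩ : ((T.erase 0).erase b).Nonempty := Finset.card_pos.1 (by
    rw [Finset.card_erase_of_mem hb, Finset.card_erase_of_mem h0]; omega)
  obtain ⟨d, hd⟩ : (((T.erase 0).erase b).erase c).Nonempty := Finset.card_pos.1 (by
    rw [Finset.card_erase_of_mem hc, Finset.card_erase_of_mem hb, Finset.card_erase_of_mem h0]; omega)
  simp only [Finset.mem_erase, ne_eq] at hb hc hd
  obtain ⟨j, hj, hje⟩ := (complete_at (hT _ h0 _ hb.2 (Ne.symm hb.1)) (hT _ h0 _ hc.2.2 (Ne.symm hc.2.1))
    (hT _ hb.2 _ hc.2.2 (Ne.symm hc.1)) (hT _ h0 _ hd.2.2.2 (Ne.symm hd.2.2.1))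
    (hT _ hb.2 _ hd.2.2.2 (Ne.symm hd.2.1)) (hT _ hc.2.2 _ hd.2.2.2 (Ne.symm hd.1))).1
  refine ⟨j, hj, ?_⟩
  rw [hje]
  refine (Finset.eq_of_subset_of_card_le ?_ ?_).symm
  · intro x hx
    simp only [Finset.mem_insert, Finset.mem_singleton] at hx
    rcases hx with rfl | rfl | rfl | rfl
    exacts [h0, hb.2, hc.2.2, hd.2.2.2]
  · rw [← hje, clique_card hj, hcard]

/-- A subgroup keeping a clique of four lines has index at least 280. -/
theorem clique_index (M : Subgroup ↥lineGroup) (hM : M.index ≠ 0) {j : ℕ} (hj : j < 280)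
    (hfix : ∀ g ∈ M, (g : Equiv.Perm (Fin 112)) • cliqueAt j = cliqueAt j) : 280 ≤ M.index := by
  have hle : M ≤ stabilizer ↥lineGroup (cliqueAt j) := fun g hg => mem_stabilizer_iff.2 (hfix g hg)
  refine le_trans ?_ (Nat.le_of_dvd (Nat.pos_of_ne_zero hM) (Subgroup.index_dvd_of_le hle))
  rw [index_stabilizer]
  have hsub : ((Finset.range 280).image cliqueAt : Set (Finset (Fin 112))) ⊆ orbit ↥lineGroup (cliqueAt j) := by
    intro T hT
    rw [Finset.coe_image] at hT
    obtain ⟨i, hi, rfl⟩ := hT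
    rw [Finset.coe_range, Set.mem_Iio] at hi
    obtain ⟨g, hg, hgi⟩ := clique_orbit hi
    obtain ⟨h, hh, hhj⟩ := clique_orbit hj
    refine ⟨⟨g * h⁻¹, mul_mem hg (inv_mem hh)⟩, ?_⟩
    show (g * h⁻¹) • cliqueAt j = cliqueAt i
    rw [mul_smul, ← hhj, inv_smul_smul, hgi]
  refine le_trans ?_ (Set.ncard_le_ncard hsub (Set.toFinite _))
  rw [Set.ncard_coe_finset, Finset.card_image_of_injOn, Finset.card_range]
  intro a ha b hb
  exact cliqueAt_inj (Finset.mem_range.1 ha) (Finset.mem_range.1 hb)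

/-- A subgroup of index 112 fixes a line. -/
theorem exists_fixed (hcard : Nat.card ↥lineGroup = 3265920) (M : Subgroup ↥lineGroup) (hM : M.index = 112) :
    ∃ x : Fin 112, M = stabilizer ↥lineGroup x := by
  classical
  haveI : Fact (Nat.Prime 3) := ⟨by norm_num⟩
  have hMc : Nat.card ↥M = 29160 := by
    have := M.card_mul_index; rw [hM, hcard] at this; omega
  let M0 := stabilizer ↥lineGroup (0 : Fin 112)
  haveI hpre : IsPretransitive ↥lineGroup (Fin 112) := ⟨fun x y => by
    obtain ⟨g, hg, rfl⟩ := exists_move_zero x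
    obtain ⟨h, hh, rfl⟩ := exists_move_zero y
    exact ⟨⟨h * g⁻¹, mul_mem hh (inv_mem hg)⟩, show (h * g⁻¹) (g 0) = h 0 by simp⟩⟩
  have hM0i : M0.index = 112 := by
    show (stabilizer ↥lineGroup (0 : Fin 112)).index = 112
    rw [index_stabilizer_of_transitive, Nat.card_fin]
  -- common Sylow subgroup, after conjugation
  let P : Sylow 3 ↥M0 := default
  let Q : Sylow 3 ↥M := default
  have hsyl : ∀ (H : Subgroup ↥lineGroup), H.index = 112 → ∀ R : Sylow 3 ↥H,
      Nat.card ↥((R : Subgroup ↥H).map H.subtype) = 729 := by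
    intro H hH R
    have hc : Nat.card ↥H = 2 ^ 3 * 5 * 3 ^ 6 := by
      have := H.card_mul_index; rw [hH, hcard] at this; omega
    rw [Subgroup.card_map_of_injective H.subtype_injective, R.card_eq_multiplicity, hc,
      Nat.factorization_mul (by norm_num) (by norm_num), Finsupp.add_apply,
      Nat.factorization_eq_zero_of_not_dvd (by norm_num), Nat.Prime.factorization_pow (by norm_num : Nat.Prime 3)]
    simp
  have hP := hsyl M0 hM0i P
  have hQ := hsyl M hM Q
  have hfac : 729 = 3 ^ (Nat.card ↥lineGroup).factorization 3 := by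
    rw [hcard, show (3265920 : ℕ) = 2 ^ 7 * 35 * 3 ^ 6 by norm_num,
      Nat.factorization_mul (by norm_num) (by norm_num), Finsupp.add_apply,
      Nat.factorization_eq_zero_of_not_dvd (by norm_num), Nat.Prime.factorization_pow (by norm_num : Nat.Prime 3)]
    simp
  let P' : Sylow 3 ↥lineGroup := Sylow.ofCard ((P : Subgroup ↥M0).map M0.subtype) (hP.trans hfac)
  let Q' : Sylow 3 ↥lineGroup := Sylow.ofCard ((Q : Subgroup ↥M).map M.subtype) (hQ.trans hfac)
  obtain ⟨t, ht⟩ := exists_smul_eq ↥lineGroup P' Q'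
  let x : Fin 112 := (t : Equiv.Perm (Fin 112)) 0
  have hQx : ∀ q ∈ (Q : Subgroup ↥M).map M.subtype, (q : Equiv.Perm (Fin 112)) x = x := by
    intro q hq
    have : q ∈ ((t • P' : Sylow 3 ↥lineGroup) : Subgroup ↥lineGroup) := by rw [ht]; exact hq
    rw [Sylow.coe_subgroup_smul, Subgroup.mem_pointwise_smul_iff_inv_smul_mem] at this
    obtain ⟨⟨r, hr⟩, -, hre⟩ := this
    have hr0 : ((MulAut.conj t)⁻¹ • q : ↥lineGroup) • (0 : Fin 112) = 0 := by
      rw [← hre]; exact hr
    rw [MulAut.smul_def, MulAut.conj_inv_apply, mul_smul, mul_smul, inv_smul_eq_iff] at hr0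
    exact hr0
  refine ⟨x, ?_⟩
  -- the orbit of the line under `M`
  let O := orbit ↥M x
  have hOdvd : O.ncard ∣ 40 := by
    have h1 := (stabilizer ↥M x).card_mul_index
    rw [index_stabilizer, hMc] at h1
    have h729 : 729 ∣ Nat.card ↥(stabilizer ↥M x) := by
      have hle : (Q : Subgroup ↥M) ≤ stabilizer ↥M x := fun q hq => hQx _ ⟨q, hq, rfl⟩
      have := Subgroup.card_dvd_of_le hle
      rwa [← Subgroup.card_map_of_injective M.subtype_injective, hQ] at this
    obtain ⟨d, hd⟩ := h729
    refine ⟨d, ?_⟩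
    rw [hd] at h1
    have h2 : 729 * (d * O.ncard) = 729 * 40 := by rw [← mul_assoc]; exact h1
    rw [mul_comm]
    exact (Nat.eq_of_mul_eq_mul_left (by norm_num) h2).symm
  -- it is a clique
  have hOclique : IsClique O.toFinset := by
    intro u hu v hv hne
    rw [Set.mem_toFinset] at hu hv
    by_contra hn
    obtain ⟨m, hm⟩ := hu
    have hm' : ((m : ↥lineGroup) : Equiv.Perm (Fin 112)) x = u := hm
    obtain ⟨s, hs, hsx⟩ := exists_move_zero x
    let w : Fin 112 := (m : ↥lineGroup)⁻¹ • v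
    have hwx : w ≠ x := fun e => hne (by
      rw [← hm', ← e]; exact smul_inv_smul (m : ↥lineGroup) v)
    have hwn : ¬ ladj x w := fun h => hn (by
      rw [← hm']
      have := (ladj_smul (m : ↥lineGroup).2 x w).2 h
      rwa [show ((m : ↥lineGroup) : Equiv.Perm (Fin 112)) w = v from smul_inv_smul (m : ↥lineGroup) v] at this)
    have hwO : w ∈ O := by
      have := mem_orbit_of_mem_orbit m⁻¹ hv
      exact this
    -- the orbit of `w` under the Sylow subgroup has 81 points
    have h81 : 81 ≤ O.ncard := by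
      let Y : Set (Fin 112) := {y | y ≠ x ∧ ¬ ladj x y}
      have hY : Y.ncard = 81 := by
        have e : Y = s '' {y | y ≠ 0 ∧ ¬ ladj 0 y} := by
          ext y
          simp only [Set.mem_image, Set.mem_setOf_eq, Y]
          constructor
          · rintro ⟨h1, h2⟩
            refine ⟨s⁻¹ y, ⟨fun e => h1 ?_, fun h => h2 ?_⟩, by simp⟩
            · rw [← hsx, ← e]; simp
            · rw [← hsx, ← s.apply_symm_apply y]
              exact (ladj_smul hs _ _).2 h
          · rintro ⟨z, ⟨h1, h2⟩, rfl⟩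
            rw [← hsx]
            exact ⟨fun e => h1 (s.injective e), fun h => h2 ((ladj_smul hs _ _).1 h)⟩
        rw [e, Set.ncard_image_of_injective _ s.injective]
        have e2 : {y : Fin 112 | y ≠ 0 ∧ ¬ ladj 0 y} =
            ↑((Finset.univ.filter fun y => ¬ ladj 0 y).erase 0) := by
          ext y; simp [and_comm]
        rw [e2, Set.ncard_coe_finset, Finset.card_erase_of_mem (by simp [ladj_irrefl]),
          Finset.filter_not, Finset.card_sdiff, Finset.inter_univ, near_card_zero]
        simp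
      let Sx := stabilizer ↥lineGroup x
      have hYorb : orbit ↥Sx w = Y := by
        ext y
        constructor
        · rintro ⟨g, rfl⟩
          have hgx : ((g : ↥lineGroup) : Equiv.Perm (Fin 112)) x = x := g.2
          refine ⟨fun e => hwx ((g : ↥lineGroup).1.injective (e.trans hgx.symm)), fun h => hwn ?_⟩
          rw [← ladj_smul (g : ↥lineGroup).2, hgx]
          exact h
        · rintro ⟨h1, h2⟩
          have tr : ∀ z, ¬ ladj x z → ¬ ladj 0 (s⁻¹ z) := fun z hz h => hz (by
            rw [← hsx, ← s.apply_symm_apply z]; exact (ladj_smul hs _ _).2 h)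
          have ne : ∀ z, z ≠ x → s⁻¹ z ≠ 0 := fun z hz h => hz (by
            rw [← hsx, ← h]; simp)
          obtain ⟨g, hg, hg0, hgw⟩ := exists_far (ne w hwx) (ne y h1) (tr w hwn) (tr y h2)
          refine ⟨⟨⟨s * g * s⁻¹, mul_mem (mul_mem hs hg) (inv_mem hs)⟩, ?_⟩, ?_⟩
          · show (s * g * s⁻¹) x = x
            rw [← hsx]; simp [hg0]
          · show (s * g * s⁻¹) w = y
            rw [Equiv.Perm.mul_apply, Equiv.Perm.mul_apply, hgw]; simp
      have hSxc : Nat.card ↥Sx = 29160 := by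
        have := Sx.card_mul_index
        rw [index_stabilizer_of_transitive, Nat.card_fin, hcard] at this
        omega
      let QQ := (Q : Subgroup ↥M).map M.subtype
      have hQle : QQ ≤ Sx := fun q hq => hQx q hq
      have hst : Nat.card ↥(stabilizer ↥Sx w) = 360 := by
        have := (stabilizer ↥Sx w).card_mul_index
        rw [index_stabilizer, hYorb, hY, hSxc] at this
        omega
      have hsQ : Nat.card ↥(stabilizer ↥QQ w) ∣ 9 := by
        have h1 : Nat.card ↥(stabilizer ↥QQ w) ∣ Nat.card ↥(stabilizer ↥Sx w) := by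
          let f : ↥(stabilizer ↥QQ w) →* ↥(stabilizer ↥Sx w) :=
            { toFun := fun q => ⟨⟨q.1.1, hQle q.1.2⟩, q.2⟩
              map_one' := rfl
              map_mul' := fun _ _ => rfl }
          exact Subgroup.card_dvd_of_injective f fun q r h =>
            Subtype.ext (Subtype.ext (congrArg (fun z : ↥(stabilizer ↥Sx w) => z.1.1) h))
        have h2 := Subgroup.card_subgroup_dvd_card (stabilizer ↥QQ w)
        rw [hQ] at h2
        rw [hst] at h1
        exact (Nat.dvd_gcd h1 h2).trans (by norm_num)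
      have horb : 81 ≤ (orbit ↥QQ w).ncard := by
        have := (stabilizer ↥QQ w).card_mul_index
        rw [index_stabilizer, hQ] at this
        have hle := Nat.le_of_dvd (by norm_num) hsQ
        nlinarith
      refine horb.trans (Set.ncard_le_ncard ?_ (Set.toFinite _))
      rintro _ ⟨⟨q, hq⟩, rfl⟩
      obtain ⟨q', -, rfl⟩ := hq
      exact mem_orbit_of_mem_orbit q' hwO
    have := Nat.le_of_dvd (by norm_num) hOdvd
    omega
  have hOle := clique_card_le hOclique
  rw [← Set.ncard_eq_toFinset_card'] at hOle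
  have hOpos : 0 < O.ncard := (Set.ncard_pos).2 ⟨x, mem_orbit_self x⟩
  -- four points are impossible
  rcases Nat.lt_or_ge O.ncard 4 with hlt | hge
  · have hcases : O.ncard = 1 ∨ O.ncard = 2 := by
      interval_cases O.ncard <;> simp at hOdvd ⊢
    rcases hcases with h1 | h2
    · refine Subgroup.eq_of_le_of_card_ge ?_ ?_
      · intro m hm
        obtain ⟨z, hz⟩ := Set.ncard_eq_one.1 h1
        have hx : x ∈ O := mem_orbit_self x
        have hm' : (⟨m, hm⟩ : ↥M) • x ∈ O := mem_orbit _ _
        rw [hz, Set.mem_singleton_iff] at hx hm'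
        exact hm'.trans hx.symm
      · rw [hMc]
        have := (stabilizer ↥lineGroup x).card_mul_index
        rw [index_stabilizer_of_transitive, Nat.card_fin, hcard] at this
        omega
    · -- two points: the Sylow subgroup fixes a neighbour of the line, against the orbits of the neighbours
      exfalso
      obtain ⟨u, v, huv, hOe⟩ := Set.ncard_eq_two.1 h2
      obtain ⟨w, hwO, hwx⟩ : ∃ w ∈ O, w ≠ x := by
        rw [hOe]
        rcases eq_or_ne u x with h | h
        · exact ⟨v, by simp, fun e => huv (h.trans e.symm)⟩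
        · exact ⟨u, by simp, h⟩
      have hadj : ladj x w := hOclique x (Set.mem_toFinset.2 (mem_orbit_self x)) w (Set.mem_toFinset.2 hwO)
        (Ne.symm hwx)
      obtain ⟨s, hs, hsx⟩ := exists_move_zero x
      have hnear : Set.ncard {y | ladj x y} = 30 := by
        have e : {y | ladj x y} = s '' {y | ladj 0 y} := by
          ext y
          simp only [Set.mem_image, Set.mem_setOf_eq]
          refine ⟨fun h => ⟨s⁻¹ y, ?_, by simp⟩, ?_⟩
          · rw [← ladj_smul hs, hsx]; simpa using h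
          · rintro ⟨z, hz, rfl⟩; rw [← hsx]; exact (ladj_smul hs _ _).2 hz
        rw [e, Set.ncard_image_of_injective _ s.injective, ← near_card_zero, ← Set.ncard_coe_finset]
        simp
      let Sx := stabilizer ↥lineGroup x
      have hN : orbit ↥Sx w = {y | ladj x y} := by
        ext y
        constructor
        · rintro ⟨g, rfl⟩
          have hgx : ((g : ↥lineGroup) : Equiv.Perm (Fin 112)) x = x := g.2
          show ladj x (((g : ↥lineGroup) : Equiv.Perm (Fin 112)) w)
          rw [← hgx]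
          exact (ladj_smul (g : ↥lineGroup).2 x w).2 hadj
        · intro h
          have tr : ∀ z, ladj x z → ladj 0 (s⁻¹ z) := fun z hz => by
            rw [← ladj_smul hs, hsx]; simpa using hz
          obtain ⟨g, hg, hg0, hgw⟩ := exists_near (tr w hadj) (tr y h)
          refine ⟨⟨⟨s * g * s⁻¹, mul_mem (mul_mem hs hg) (inv_mem hs)⟩, ?_⟩, ?_⟩
          · show (s * g * s⁻¹) x = x
            rw [← hsx]; simp [hg0]
          · show (s * g * s⁻¹) w = y
            rw [Equiv.Perm.mul_apply, Equiv.Perm.mul_apply, hgw]; simp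
      have hSxc : Nat.card ↥Sx = 29160 := by
        have := Sx.card_mul_index
        rw [index_stabilizer_of_transitive, Nat.card_fin, hcard] at this
        omega
      let QQ := (Q : Subgroup ↥M).map M.subtype
      have hfixw : ∀ q ∈ QQ, (q : Equiv.Perm (Fin 112)) w = w := by
        rintro _ ⟨q, hq, rfl⟩
        have hqO : q • w ∈ O := mem_orbit_of_mem_orbit q hwO
        have hqx : q • x = x := hQx _ ⟨q, hq, rfl⟩
        have hne : q • w ≠ x := fun e => hwx (smul_left_cancel q (e.trans hqx.symm))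
        have hx : x ∈ O := mem_orbit_self x
        rw [hOe] at hqO hwO hx
        simp only [Set.mem_insert_iff, Set.mem_singleton_iff] at hqO hwO hx
        rcases hx with e | e <;> rcases hwO with f | f <;> rcases hqO with g | g <;>
          first
            | exact g.trans f.symm
            | exact absurd (f.trans e.symm) hwx
            | exact absurd (g.trans e.symm) hne
      have h729 : 729 ∣ Nat.card ↥(stabilizer ↥Sx w) := by
        rw [← hQ]
        let f : ↥QQ →* ↥(stabilizer ↥Sx w) :=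
          { toFun := fun q => ⟨⟨q.1, hQx q.1 q.2⟩, hfixw q.1 q.2⟩
            map_one' := rfl
            map_mul' := fun _ _ => rfl }
        exact Subgroup.card_dvd_of_injective f fun q r h =>
          Subtype.ext (congrArg (fun z : ↥(stabilizer ↥Sx w) => z.1.1) h)
      have hst := (stabilizer ↥Sx w).card_mul_index
      rw [index_stabilizer, hN, hnear, hSxc] at hst
      omega
  · exfalso
    obtain ⟨s, hs, hsx⟩ := exists_move_zero x
    have h0 : (0 : Fin 112) ∈ s⁻¹ • O.toFinset := by
      rw [← Finset.inv_smul_mem_iff, inv_inv, Equiv.Perm.smul_def, hsx, Set.mem_toFinset]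
      exact mem_orbit_self x
    obtain ⟨j, hj, hje⟩ := exists_clique (clique_smul (inv_mem hs) hOclique)
      (by rw [Finset.card_smul_finset, ← Set.ncard_eq_toFinset_card']; omega) h0
    let t : ↥lineGroup := ⟨s, hs⟩
    let M' : Subgroup ↥lineGroup := M.map (MulAut.conj t⁻¹).toMonoidHom
    have hM' : M'.index = 112 := by
      show (M.map ((MulAut.conj t⁻¹ : MulAut ↥lineGroup) : ↥lineGroup →* ↥lineGroup)).index = 112
      rw [Subgroup.index_map_equiv, hM]
    have h280 := clique_index M' (by omega) hj ?_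
    · omega
    rintro _ ⟨m, hm, rfl⟩
    rw [← hje]
    show (((MulAut.conj t⁻¹) m : ↥lineGroup) : Equiv.Perm (Fin 112)) • (s⁻¹ • O.toFinset) = s⁻¹ • O.toFinset
    rw [MulAut.conj_apply, inv_inv, Subgroup.coe_mul, Subgroup.coe_mul, Subgroup.coe_inv, mul_smul,
      mul_smul, smul_inv_smul]
    congr 1
    ext y
    rw [← Finset.inv_smul_mem_iff, Set.mem_toFinset, Set.mem_toFinset]
    constructor
    · intro h
      have := mem_orbit_of_mem_orbit (⟨m, hm⟩ : ↥M) h
      rwa [show (⟨m, hm⟩ : ↥M) • ((m : Equiv.Perm (Fin 112))⁻¹ • y) = y from smul_inv_smul (m : Equiv.Perm (Fin 112)) y] at this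
    · intro h
      exact mem_orbit_of_mem_orbit (⟨m, hm⟩ : ↥M)⁻¹ h

/-- A transitive action on 112 points is the action on the lines. -/
theorem exists_labelling (hcard : Nat.card ↥lineGroup = 3265920) {X : Type*} [MulAction ↥lineGroup X]
    [IsPretransitive ↥lineGroup X] (hX : Nat.card X = 112) :
    ∃ φ : X ≃ Fin 112, ∀ (g : ↥lineGroup) (z : X), φ (g • z) = (g : Equiv.Perm (Fin 112)) (φ z) := by
  obtain ⟨⟨z₀⟩, hfin⟩ := Nat.card_pos_iff.1 (by omega : 0 < Nat.card X)
  obtain ⟨x, hx⟩ := exists_fixed hcard (stabilizer ↥lineGroup z₀) (by rw [index_stabilizer_of_transitive, hX])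
  choose t ht using fun z : X => exists_smul_eq ↥lineGroup z₀ z
  let φ : X → Fin 112 := fun z => (t z : Equiv.Perm (Fin 112)) x
  have key : ∀ (g : ↥lineGroup) (z : X), g • z₀ = z → (g : Equiv.Perm (Fin 112)) x = φ z := by
    intro g z hgz
    have hm : (t z)⁻¹ * g ∈ stabilizer ↥lineGroup z₀ := by
      rw [mem_stabilizer_iff, mul_smul, hgz, inv_smul_eq_iff, ht]
    rw [hx, mem_stabilizer_iff, mul_smul, inv_smul_eq_iff] at hm
    exact hm
  have hinj : Function.Injective φ := by
    intro u v h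
    have hm : (t u)⁻¹ * t v ∈ stabilizer ↥lineGroup x := by
      rw [mem_stabilizer_iff, mul_smul, inv_smul_eq_iff]
      exact h.symm
    rw [← hx, mem_stabilizer_iff, mul_smul, inv_smul_eq_iff, ht, ht] at hm
    exact hm.symm
  have hbij : Function.Bijective φ := (Nat.bijective_iff_injective_and_card φ).2 ⟨hinj, by rw [hX, Nat.card_fin]⟩
  refine ⟨Equiv.ofBijective φ hbij, fun g z => ?_⟩
  show φ (g • z) = (g : Equiv.Perm (Fin 112)) (φ z)
  rw [← key (g * t z) (g • z) (by rw [mul_smul, ht])]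
  rfl

end CfsgLib.Recog.McLRankThree
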