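import Cfsg.Agent.Lib.Recog.McLRankThree.Labelling
import Cfsg.Agent.Lib.Recog.SporBound.PatternBound
import Cfsg.Agent.Lib.LocalEvenB.McLUnitary.Main
import Cfsg.Agent.Lib.Sporadic.MclOut

/-!
# Rank three groups on 275 points with point stabiliser U₄(3): the McLaughlin group

Both the group and the configuration group of the lattice act on the model graph with the same point stabiliser;
the automorphisms of the graph are too few for two different such groups.
-/

set_option autoImplicit false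
set_option maxRecDepth 100000

namespace CfsgLib.Recog.McLRankThree

open MulAction
open scoped Pointwise
open CfsgLib.Recog.SporBound.PatternBound

/-! ### the symmetries of the model graph -/

/-- The symmetries of the model graph. -/
def modelAut : Subgroup (Equiv.Perm (Fin 275)) where
  carrier := {g | ∀ x y, madj (g x) (g y) ↔ madj x y}
  one_mem' x y := Iff.rfl
  mul_mem' {g h} hg hh x y := by rw [Equiv.Perm.mul_apply, Equiv.Perm.mul_apply, hg, hh]
  inv_mem' {g} hg x y := by
    rw [← hg (g⁻¹ x) (g⁻¹ y)]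
    simp

/-- The pattern relation: equal, adjacent or neither. -/
def relN (a b : ℕ) : ℕ := if a = b then 2 else if modelB a b then 1 else 0

/-- No product is used. -/
def fstN (a _b : ℕ) : ℕ := a

/-- No invariant is used. -/
def zeroN (_a : ℕ) : ℕ := 0

/-- The steps. -/
def bsteps : List Step :=
  baseSteps.zipIdx.map fun p => Step.base p.1.1 (List.range p.2) p.1.2

theorem steps_ok : stepsOK fstN id relN zeroN (List.range 275) bsteps [] = true ∧
    (known fstN id bsteps []).all (fun u => decide (u < 275)) = true ∧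
    ((List.range 275).all fun u => Nat.ble ((List.range 275).countP
      (sameB relN zeroN (known fstN id bsteps []) (List.range (known fstN id bsteps []).length) u)) 1) = true ∧
    total bsteps = 229920768000 := by
  decide +kernel

theorem card_modelAut : Nat.card ↥modelAut ≤ 229920768000 := by
  obtain ⟨h1, h2, h3, h4⟩ := steps_ok
  have C : Compat (H := ↥modelAut) fstN id relN zeroN (Fin.val : Fin 275 → ℕ) (List.range 275) :=
    { inj := Fin.val_injective
      mem := fun x => List.mem_range.2 x.isLt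
      surj := fun c hc => ⟨⟨c, List.mem_range.1 hc⟩, rfl⟩
      cj := fun x y => ⟨x, rfl, fun h => rfl⟩
      tu := fun x => ⟨x, rfl, fun h => rfl⟩
      rel := fun h x y => by
        have hinj : ((h • x : Fin 275).val = (h • y : Fin 275).val) ↔ x.val = y.val := by
          rw [← Fin.ext_iff, ← Fin.ext_iff]
          exact (h.1.injective).eq_iff
        have hadj : modelB (h • x : Fin 275).val (h • y : Fin 275).val = modelB x.val y.val :=
          Bool.eq_iff_iff.2 (h.2 x y)
        unfold relN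
        rw [if_congr hinj rfl rfl, hadj]
      inv := fun h x => rfl }
  rw [← h4]
  refine CfsgLib.Recog.SporBound.PatternBound.card_le C h1 ?_
  rw [eq_bot_iff]
  intro g hg
  rw [Subgroup.mem_bot]
  refine Subtype.ext (Equiv.ext fun x => Fin.ext ?_)
  by_contra hne
  set K := known fstN id bsteps [] with hK
  have hle := List.all_eq_true.1 h3 x.val (List.mem_range.2 x.isLt)
  rw [Nat.ble_eq, List.countP_eq_length_filter] at hle
  have hsame : sameB relN zeroN K (List.range K.length) x.val (g • x : Fin 275).val = true := by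
    simp only [sameB, Bool.and_eq_true, List.all_eq_true, List.mem_range, Nat.beq_eq]
    refine ⟨rfl, fun i hi => ?_⟩
    have hlt : K.getD i 0 < 275 := by
      rw [List.getD_eq_getElem _ _ hi]
      exact of_decide_eq_true (List.all_eq_true.1 h2 _ (List.getElem_mem hi))
    have hfix : g • (⟨K.getD i 0, hlt⟩ : Fin 275) = ⟨K.getD i 0, hlt⟩ :=
      hg _ (show K.getD i 0 ∈ K by rw [List.getD_eq_getElem _ _ hi]; exact List.getElem_mem hi)
    have := C.rel g ⟨K.getD i 0, hlt⟩ x
    rw [hfix] at this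
    exact this
  have hsame0 : sameB relN zeroN K (List.range K.length) x.val x.val = true := by
    simp [sameB]
  have hsub : [x.val, (g • x : Fin 275).val].toFinset ⊆
      ((List.range 275).filter (sameB relN zeroN K (List.range K.length) x.val)).toFinset := by
    intro n hn
    simp only [List.mem_toFinset, List.mem_cons, List.not_mem_nil, or_false] at hn
    rw [List.mem_toFinset, List.mem_filter, List.mem_range]
    rcases hn with rfl | rfl
    exacts [⟨x.isLt, hsame0⟩, ⟨(g • x : Fin 275).isLt, hsame⟩]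
  have h2' := (Finset.card_le_card hsub).trans (List.toFinset_card_le _)
  rw [List.toFinset_card_of_nodup (List.nodup_cons.2
    ⟨by rw [List.mem_singleton]; exact Ne.symm hne, List.nodup_singleton _⟩)] at h2'
  exact absurd (h2'.trans hle) (by simp)

/-! ### groups with the point stabiliser of the lines -/

/-- Fixing the first point and moving the lines as an element of the group on the lines. -/
def stabModel : Set (Equiv.Perm (Fin 275)) :=
  {g | g ∈ modelAut ∧ g 0 = 0 ∧ ∃ h ∈ lineGroup, ∀ x : Fin 112, g (mLine x) = mLine (h x)}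

theorem fin275_cases (z : Fin 275) : z = 0 ∨ (∃ x, z = mLine x) ∨ ∃ i, z = mFam i := by
  rcases Nat.lt_or_ge z.val 1 with h | h
  · exact Or.inl (Fin.ext (by simp; omega))
  rcases Nat.lt_or_ge z.val 113 with h' | h'
  · exact Or.inr (Or.inl ⟨⟨z.val - 1, by omega⟩, Fin.ext (by simp [mLine]; omega)⟩)
  · exact Or.inr (Or.inr ⟨⟨z.val - 113, by omega⟩, Fin.ext (by simp [mFam]; omega)⟩)

theorem ext_of_lines {f g : Equiv.Perm (Fin 275)} (hf : f ∈ modelAut) (hg : g ∈ modelAut) (hf0 : f 0 = 0)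
    (hg0 : g 0 = 0) (h : ∀ x, f (mLine x) = g (mLine x)) : f = g := by
  refine Equiv.ext fun z => ?_
  rcases fin275_cases z with rfl | ⟨x, rfl⟩ | ⟨i, rfl⟩
  · rw [hf0, hg0]
  · exact h x
  have hk : ∀ {k : Equiv.Perm (Fin 275)}, k ∈ modelAut → k 0 = 0 → ∃ m, k (mFam i) = mFam m := by
    intro k hk hk0
    rcases fin275_cases (k (mFam i)) with e | ⟨x, e⟩ | e
    · exfalso
      have := k.injective (e.trans hk0.symm)
      have := congrArg Fin.val this
      simp only [mFam, Fin.val_zero] at this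
      omega
    · exfalso
      have h' := (madj_fams i).1
      rw [← hk 0 (mFam i), hk0, e] at h'
      exact h' (madj_lines x).1
    · exact e
  obtain ⟨m, hm⟩ := hk hf hf0
  obtain ⟨n, hn⟩ := hk hg hg0
  suffices m = n by rw [hm, hn, this]
  refine Fin.ext (famT_inj (show 0 < 4 by norm_num) m.isLt n.isLt ?_)
  -- a line is in the entry iff it is adjacent to it
  ext y
  rw [← (madj_fams m).2.2, ← (madj_fams n).2.2]
  obtain ⟨x, hx⟩ : ∃ x, f (mLine x) = mLine y := by
    rcases fin275_cases (f.symm (mLine y)) with e | ⟨x, e⟩ | ⟨k, e⟩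
    · exfalso
      have := congrArg f e
      rw [Equiv.apply_symm_apply, hf0] at this
      have := congrArg Fin.val this
      simp only [mLine, Fin.val_zero] at this
      omega
    · exact ⟨x, by rw [← e, Equiv.apply_symm_apply]⟩
    · exfalso
      have h' := (madj_fams k).1
      rw [← hf 0 (mFam k), hf0, ← e, Equiv.apply_symm_apply] at h'
      exact h' (madj_lines y).1
  rw [← hm, ← hn, ← hx]
  conv_rhs => rw [h x]
  rw [hf, hg]

/-- A group on the model graph with that stabiliser. -/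
structure IsModelGroup (H : Subgroup (Equiv.Perm (Fin 275))) : Prop where
  le : H ≤ modelAut
  card : Nat.card ↥H = 898128000
  trans : ∀ x : Fin 275, ∃ g ∈ H, g 0 = x
  stab : ∀ g ∈ H, g 0 = 0 → g ∈ stabModel
  lines : ∀ x y : Fin 112, ∃ g ∈ H, g 0 = 0 ∧ g (mLine x) = mLine y
  fams : ∀ i k : Fin 162, ∃ g ∈ H, g 0 = 0 ∧ g (mFam i) = mFam k

theorem card_lineGroup_perm {K : Type*} [Field K] [Fintype K] (hK : Fintype.card K = 9) :
    Nat.card ↥lineGroup = 3265920 ∧ Nonempty (Cfsg.PSU 4 K 3 ≃* ↥lineGroup) := by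
  obtain ⟨hp, r, hr⟩ := LocalEvenB.McLUnitary.exists_root hK
  have hgen : ∀ k : Fin 4, genP k.val = LocalEvenB.McLUnitary.pact hr hK
      (QuotientGroup.mk (LocalEvenB.McLUnitary.gen hr hK k)) := fun k => by
    refine Equiv.ext fun a => Fin.ext ?_
    show _ = (LocalEvenB.McLUnitary.act hr hK _ a).val
    rw [LocalEvenB.McLUnitary.act_gen, genP_val, genN_tab]
  have heq : (LocalEvenB.McLUnitary.pact hr hK).range = lineGroup := by
    refine le_antisymm (LocalEvenB.McLUnitary.pact_range hr hK fun k => ?_) ((Subgroup.closure_le _).2 ?_)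
    · have := hgen k
      show LocalEvenB.McLUnitary.act hr hK _ ∈ lineGroup
      have e : LocalEvenB.McLUnitary.act hr hK (LocalEvenB.McLUnitary.gen hr hK k) = genP k.val := this.symm
      rw [e]
      exact genP_mem _
    · rintro _ ⟨k, rfl⟩
      have hk : genP k = genP (k % 4) := Equiv.ext fun z => Fin.ext (by rw [genP_val, genP_val, genN_mod])
      rw [hk, hgen ⟨k % 4, Nat.mod_lt _ (by norm_num)⟩]
      exact ⟨_, rfl⟩
  let e := (MonoidHom.ofInjective (LocalEvenB.McLUnitary.pact_injective hr hK)).trans (MulEquiv.subgroupCongr heq)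
  exact ⟨by rw [← Nat.card_congr e.toEquiv, LocalEvenB.McLUnitary.card_psu hr hK], ⟨e⟩⟩

theorem eq_of_isModelGroup (hL : Nat.card ↥lineGroup = 3265920) {H₁ H₂ : Subgroup (Equiv.Perm (Fin 275))}
    (h₁ : IsModelGroup H₁) (h₂ : IsModelGroup H₂) : H₁ = H₂ := by
  classical
  have hSH : ∀ {H}, IsModelGroup H → stabModel ⊆ {g | g ∈ H ∧ g 0 = 0} := by
    intro H h
    have hcardH : {g | g ∈ H ∧ g 0 = 0}.ncard = 3265920 := by
      haveI : IsPretransitive ↥H (Fin 275) := ⟨fun x y => by
        obtain ⟨g, hg, rfl⟩ := h.trans x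
        obtain ⟨g', hg', rfl⟩ := h.trans y
        exact ⟨⟨g' * g⁻¹, mul_mem hg' (inv_mem hg)⟩, show (g' * g⁻¹) (g 0) = g' 0 by simp⟩⟩
      have := (stabilizer ↥H (0 : Fin 275)).card_mul_index
      rw [index_stabilizer_of_transitive, Nat.card_fin, h.card] at this
      have e : {g | g ∈ H ∧ g 0 = 0}.ncard = Nat.card ↥(stabilizer ↥H (0 : Fin 275)) := by
        rw [← Nat.card_coe_set_eq]
        exact Nat.card_congr
          { toFun := fun g => ⟨⟨g.1, g.2.1⟩, g.2.2⟩
            invFun := fun g => ⟨g.1.1, g.1.2, g.2⟩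
            left_inv := fun g => rfl
            right_inv := fun g => rfl }
      omega
    have hle : stabModel.ncard ≤ 3265920 := by
      let r : ↥stabModel → ↥lineGroup := fun g => ⟨g.2.2.2.choose, g.2.2.2.choose_spec.1⟩
      rw [← Nat.card_coe_set_eq, ← hL]
      refine Nat.card_le_card_of_injective r fun f g e => Subtype.ext ?_
      refine ext_of_lines f.2.1 g.2.1 f.2.2.1 g.2.2.1 fun x => ?_
      rw [f.2.2.2.choose_spec.2, g.2.2.2.choose_spec.2]
      exact congrArg (fun k : ↥lineGroup => mLine (k.1 x)) e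
    exact (Set.eq_of_subset_of_ncard_le (fun g hg => h.stab g hg.1 hg.2) (by omega) (Set.toFinite _)).superset
  -- the intersection is transitive
  set I : Subgroup (Equiv.Perm (Fin 275)) := H₁ ⊓ H₂ with hI
  have hst : ∀ g ∈ H₁, g 0 = 0 → g ∈ I := fun g hg hg0 => ⟨hg, (hSH h₂ (h₁.stab g hg hg0)).1⟩
  let O := orbit ↥I (0 : Fin 275)
  have hmove : ∀ g ∈ H₁, g 0 = 0 → ∀ z ∈ O, g z ∈ O := fun g hg hg0 z hz =>
    mem_orbit_of_mem_orbit (⟨g, hst g hg hg0⟩ : ↥I) hz
  have hlines : (∃ x, mLine x ∈ O) → ∀ y, mLine y ∈ O := by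
    rintro ⟨x, hx⟩ y
    obtain ⟨g, hg, hg0, hgx⟩ := h₁.lines x y
    rw [← hgx]; exact hmove g hg hg0 _ hx
  have hfams : (∃ i, mFam i ∈ O) → ∀ k, mFam k ∈ O := by
    rintro ⟨x, hx⟩ y
    obtain ⟨g, hg, hg0, hgx⟩ := h₁.fams x y
    rw [← hgx]; exact hmove g hg hg0 _ hx
  have hIstab : Nat.card ↥(stabilizer ↥I (0 : Fin 275)) = 3265920 := by
    haveI : IsPretransitive ↥H₁ (Fin 275) := ⟨fun x y => by
      obtain ⟨g, hg, rfl⟩ := h₁.trans x
      obtain ⟨g', hg', rfl⟩ := h₁.trans y
      exact ⟨⟨g' * g⁻¹, mul_mem hg' (inv_mem hg)⟩, show (g' * g⁻¹) (g 0) = g' 0 by simp⟩⟩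
    have := (stabilizer ↥H₁ (0 : Fin 275)).card_mul_index
    rw [index_stabilizer_of_transitive, Nat.card_fin, h₁.card] at this
    have e : Nat.card ↥(stabilizer ↥I (0 : Fin 275)) = Nat.card ↥(stabilizer ↥H₁ (0 : Fin 275)) :=
      Nat.card_congr
        { toFun := fun g => ⟨⟨g.1.1, g.1.2.1⟩, g.2⟩
          invFun := fun g => ⟨⟨g.1.1, hst g.1.1 g.1.2 g.2⟩, g.2⟩
          left_inv := fun g => rfl
          right_inv := fun g => rfl }
    omega
  have hIc : Nat.card ↥I = O.ncard * 3265920 := by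
    rw [← (stabilizer ↥I (0 : Fin 275)).card_mul_index, index_stabilizer, hIstab, Nat.mul_comm]
  have hdvd : O.ncard ∣ 275 := by
    have := Subgroup.card_dvd_of_le (show I ≤ H₁ from inf_le_left)
    rw [hIc, h₁.card, show (898128000 : ℕ) = 275 * 3265920 by norm_num] at this
    exact Nat.dvd_of_mul_dvd_mul_right (by norm_num) this
  have h0 : (0 : Fin 275) ∈ O := mem_orbit_self _
  have hmL : Function.Injective mLine := fun x y h => Fin.ext (by have := congrArg Fin.val h; simp [mLine] at this; omega)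
  have hmF : Function.Injective mFam := fun x y h => Fin.ext (by have := congrArg Fin.val h; simp [mFam] at this; omega)
  have hnotL : (0 : Fin 275) ∉ Set.range mLine := fun ⟨x, hx⟩ => by
    have := congrArg Fin.val hx; simp only [mLine, Fin.val_zero] at this; omega
  have hnotF : (0 : Fin 275) ∉ Set.range mFam := fun ⟨x, hx⟩ => by
    have := congrArg Fin.val hx; simp only [mFam, Fin.val_zero] at this; omega
  by_cases hL' : ∃ x, mLine x ∈ O
  · by_cases hF' : ∃ i, mFam i ∈ O
    · -- everything: the intersection is all of both groups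
      have hO : O = Set.univ := Set.eq_univ_of_forall fun z => by
        rcases fin275_cases z with rfl | ⟨x, rfl⟩ | ⟨i, rfl⟩
        exacts [h0, hlines hL' x, hfams hF' i]
      rw [hO, Set.ncard_univ, Nat.card_fin] at hIc
      have e1 : I = H₁ := Subgroup.eq_of_le_of_card_ge inf_le_left (by rw [h₁.card, hIc])
      have e2 : I = H₂ := Subgroup.eq_of_le_of_card_ge inf_le_right (by rw [h₂.card, hIc])
      exact e1.symm.trans e2
    · exfalso
      have hO : O = insert 0 (Set.range mLine) := Set.Subset.antisymm (fun z hz => by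
        rcases fin275_cases z with rfl | ⟨x, rfl⟩ | ⟨i, rfl⟩
        exacts [Or.inl rfl, Or.inr ⟨x, rfl⟩, absurd ⟨i, hz⟩ hF'])
        (Set.insert_subset h0 (by rintro _ ⟨x, rfl⟩; exact hlines hL' x))
      rw [hO, Set.ncard_insert_of_notMem hnotL, Set.ncard_range_of_injective hmL, Nat.card_fin] at hdvd
      norm_num at hdvd
  · by_cases hF' : ∃ i, mFam i ∈ O
    · exfalso
      have hO : O = insert 0 (Set.range mFam) := Set.Subset.antisymm (fun z hz => by
        rcases fin275_cases z with rfl | ⟨x, rfl⟩ | ⟨i, rfl⟩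
        exacts [Or.inl rfl, absurd ⟨x, hz⟩ hL', Or.inr ⟨i, rfl⟩])
        (Set.insert_subset h0 (by rintro _ ⟨x, rfl⟩; exact hfams hF' x))
      rw [hO, Set.ncard_insert_of_notMem hnotF, Set.ncard_range_of_injective hmF, Nat.card_fin] at hdvd
      norm_num at hdvd
    · -- only the first point: too many symmetries
      exfalso
      have hO : O = {0} := Set.eq_singleton_iff_unique_mem.2 ⟨h0, fun z hz => by
        rcases fin275_cases z with rfl | ⟨x, rfl⟩ | ⟨i, rfl⟩
        exacts [rfl, absurd ⟨x, hz⟩ hL', absurd ⟨i, hz⟩ hF']⟩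
      rw [hO, Set.ncard_singleton, one_mul] at hIc
      -- the product of the two groups inside the symmetries
      have hne : H₂.relIndex modelAut ≠ 0 := Subgroup.index_ne_zero_of_finite
      have hrel := Subgroup.relIndex_le_of_le_right (H := H₂) h₁.le hne
      have key : ∀ {A B : Subgroup (Equiv.Perm (Fin 275))}, A ≤ B →
          Nat.card ↥A * A.relIndex B = Nat.card ↥B := fun {A B} h => by
        have := Subgroup.relIndex_mul_relIndex ⊥ A B bot_le h
        rwa [Subgroup.relIndex_bot_left, Subgroup.relIndex_bot_left] at this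
      have e1 : Nat.card ↥I * H₂.relIndex H₁ = Nat.card ↥H₁ := by
        rw [← Subgroup.inf_relIndex_left H₁ H₂]
        exact key inf_le_left
      have e2 : Nat.card ↥H₂ * H₂.relIndex modelAut = Nat.card ↥modelAut := key h₂.le
      rw [hIc, h₁.card] at e1
      rw [h₂.card] at e2
      have := card_modelAut
      omega

/-! ### the image of a rank three group -/

theorem exists_modelGroup {Ω : Type*} [Fintype Ω] [DecidableEq Ω] (G : Subgroup (Equiv.Perm Ω))
    [IsPretransitive ↥G Ω] (hΩ : Fintype.card Ω = 275) (a : Ω) {K : Type*} [Field K] [Fintype K]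
    (hK : Fintype.card K = 9) (e : ↥(stabilizer ↥G a) ≃* Cfsg.PSU 4 K 3) (b c : Ω)
    (hb : (orbit ↥(stabilizer ↥G a) b).ncard = 112) (hc : (orbit ↥(stabilizer ↥G a) c).ncard = 162) :
    ∃ H, IsModelGroup H ∧ Nonempty (↥G ≃* ↥H) := by
  obtain ⟨hL, ⟨u⟩⟩ := card_lineGroup_perm hK
  obtain ⟨χ, hχa, hχadj, hχS, hχl, hχf⟩ := labelling hΩ a (e.trans u) hL b c hb hc
  let θ : ↥G →* Equiv.Perm (Fin 275) :=
    MonoidHom.mk' (fun g => χ.permCongr (g : Equiv.Perm Ω)) fun g h => Equiv.ext fun x => by simp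
  have hθ : ∀ (g : ↥G) (z : Ω), θ g (χ z) = χ (g • z) := fun g z => by
    show χ.permCongr _ (χ z) = _
    simp
    rfl
  have hinj : Function.Injective θ := fun g h e => Subtype.ext (χ.permCongr.injective e)
  have h0 : χ.symm 0 = a := by rw [← hχa, Equiv.symm_apply_apply]
  refine ⟨θ.range, ⟨?_, ?_, ?_, ?_, ?_, ?_⟩, ⟨MonoidHom.ofInjective hinj⟩⟩
  · rintro _ ⟨g, rfl⟩ x y
    have := hχadj g (χ.symm x) (χ.symm y)
    rw [← hθ, ← hθ, Equiv.apply_symm_apply, Equiv.apply_symm_apply] at this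
    exact this
  · rw [← Nat.card_congr (MonoidHom.ofInjective hinj).toEquiv, ← (stabilizer ↥G a).card_mul_index,
      index_stabilizer_of_transitive, Nat.card_congr (e.trans u).toEquiv, hL, Nat.card_eq_fintype_card, hΩ]
  · intro x
    obtain ⟨g, hg⟩ := exists_smul_eq ↥G a (χ.symm x)
    exact ⟨θ g, ⟨g, rfl⟩, by rw [← hχa, hθ, hg, Equiv.apply_symm_apply]⟩
  · rintro _ ⟨g, rfl⟩ hg0
    have hga : g • a = a := χ.injective (by rw [← hθ, hχa, hg0])
    refine ⟨?_, hg0, ?_⟩
    · intro x y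
      have := hχadj g (χ.symm x) (χ.symm y)
      rw [← hθ, ← hθ, Equiv.apply_symm_apply, Equiv.apply_symm_apply] at this
      exact this
    · obtain ⟨h, hh, he⟩ := hχS ⟨g, hga⟩
      refine ⟨h, hh, fun x => ?_⟩
      rw [← he x, ← χ.apply_symm_apply (mLine x), hθ, Equiv.symm_apply_apply]
      rfl
  · intro x y
    obtain ⟨s, hs⟩ := hχl x y
    refine ⟨θ s.1, ⟨s.1, rfl⟩, by rw [← hχa, hθ, show s.1 • a = a from s.2], ?_⟩
    rw [← χ.apply_symm_apply (mLine x), hθ]
    exact hs
  · intro i k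
    obtain ⟨s, hs⟩ := hχf i k
    refine ⟨θ s.1, ⟨s.1, rfl⟩, by rw [← hχa, hθ, show s.1 • a = a from s.2], ?_⟩
    rw [← χ.apply_symm_apply (mFam i), hθ]
    exact hs

/-! ### the configuration group -/

section Lattice

open Cfsg CfsgLib.Sporadic.Conway CfsgLib.ThreeTrans.Leech

/-- The 275 vectors. -/
def Pts275 : Type := {x : ↥leechLattice // x ∈ DS [(fiveElt, (24 : ℤ)), (pairElt, 16)]}

theorem fix_mem_DS {g : ↥Co0} (hg : g ∈ fixGroup [fiveElt, pairElt]) {x : ↥leechLattice}
    (hx : x ∈ DS [(fiveElt, (24 : ℤ)), (pairElt, 16)]) : g • x ∈ DS [(fiveElt, (24 : ℤ)), (pairElt, 16)] :=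
  smul_mem_DS (fun p hp => by
    simp only [List.mem_cons, List.not_mem_nil, or_false] at hp
    rcases hp with rfl | rfl <;> exact mem_fixGroup.1 hg _ (by simp)) hx

noncomputable instance ptsAction : MulAction ↥(fixGroup [fiveElt, pairElt]) Pts275 where
  smul g x := ⟨g.1 • x.1, fix_mem_DS g.2 x.2⟩
  one_smul x := Subtype.ext (one_smul ↥Co0 x.1)
  mul_smul g h x := Subtype.ext (mul_smul g.1 h.1 x.1)

theorem pts_val (g : ↥(fixGroup [fiveElt, pairElt])) (x : Pts275) : (g • x).1 = g.1 • x.1 := rfl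

theorem mcl_modelGroup {K : Type} [Field K] [Fintype K] (hK : Fintype.card K = 9) :
    ∃ H, IsModelGroup H ∧ Nonempty (↥Spor.McL ≃* ↥H) := by
  classical
  have hcard : Nat.card Pts275 = 275 := by
    rw [show Nat.card Pts275 = Nat.card ↥(DS [(fiveElt, (24 : ℤ)), (pairElt, 16)]) from rfl,
      Nat.card_coe_set_eq, mcl_set.1]
  haveI : Finite Pts275 := Nat.finite_of_card_ne_zero (by omega)
  letI : Fintype Pts275 := Fintype.ofFinite _
  have hmem : mclPt ∈ DS [(fiveElt, (24 : ℤ)), (pairElt, 16)] := by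
    refine ⟨?_, ?_⟩
    · show sqNorm (pv LocalEvenB.McLUnitary.kMcl) = 32
      decide +kernel
    · simp only [List.forall_mem_cons]
      refine ⟨?_, ?_, by simp⟩
      · show dotInt (pv kFive) (pv LocalEvenB.McLUnitary.kMcl) = 24
        decide +kernel
      · show dotInt (pv kPair) (pv LocalEvenB.McLUnitary.kMcl) = 16
        decide +kernel
  let p₀ : Pts275 := ⟨mclPt, hmem⟩
  haveI htr : IsPretransitive ↥(fixGroup [fiveElt, pairElt]) Pts275 := ⟨fun x y => by
    obtain ⟨g, hg, hgf⟩ := mcl_set.2.1 _ x.2 _ y.2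
    exact ⟨⟨g, mem_fixGroup.2 hgf⟩, Subtype.ext hg⟩⟩
  let ρ := MulAction.toPermHom ↥(fixGroup [fiveElt, pairElt]) Pts275
  have hinj : Function.Injective ρ := by
    haveI := simple_mcl
    rcases (MonoidHom.normal_ker ρ).eq_bot_or_eq_top with h | h
    · exact (MonoidHom.ker_eq_bot_iff _).1 h
    · exfalso
      have hsub : Subsingleton Pts275 := ⟨fun x y => by
        obtain ⟨g, hg⟩ := exists_smul_eq ↥(fixGroup [fiveElt, pairElt]) x y
        have hg' : ρ g = 1 := MonoidHom.mem_ker.1 (h ▸ Subgroup.mem_top g)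
        rw [← hg]
        exact (congrArg (fun π : Equiv.Perm Pts275 => π x) hg').symm⟩
      have := Finite.card_le_one_iff_subsingleton.2 hsub
      omega
  haveI : IsPretransitive ↥ρ.range Pts275 := ⟨fun x y => by
    obtain ⟨g, hg⟩ := exists_smul_eq ↥(fixGroup [fiveElt, pairElt]) x y
    exact ⟨⟨ρ g, g, rfl⟩, hg⟩⟩
  have hfix3 : ∀ g : ↥Co0, g ∈ LocalEvenB.McLUnitary.stab ↔
      g ∈ fixGroup [fiveElt, pairElt] ∧ g • mclPt = mclPt := fun g => by
    simp only [LocalEvenB.McLUnitary.stab, mem_fixGroup, List.forall_mem_cons]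
    tauto
  let f0 : ↥LocalEvenB.McLUnitary.stab →* ↥(stabilizer ↥ρ.range p₀) :=
    MonoidHom.mk' (fun g => ⟨⟨ρ ⟨g.1, ((hfix3 _).1 g.2).1⟩, _, rfl⟩, Subtype.ext ((hfix3 _).1 g.2).2⟩)
      fun g h => Subtype.ext (Subtype.ext
        (map_mul ρ ⟨g.1, ((hfix3 _).1 g.2).1⟩ ⟨h.1, ((hfix3 _).1 h.2).1⟩))
  have hf0 : Function.Bijective f0 := by
    refine ⟨fun g h e => ?_, fun s => ?_⟩
    · have := hinj (congrArg (fun z : ↥(stabilizer ↥ρ.range p₀) => z.1.1) e)
      exact Subtype.ext (congrArg (fun z : ↥(fixGroup [fiveElt, pairElt]) => z.1) this)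
    · obtain ⟨g, hg⟩ := s.1.2
      have hgp : g • p₀ = p₀ := by
        have := s.2
        rw [mem_stabilizer_iff] at this
        calc g • p₀ = ρ g p₀ := rfl
          _ = p₀ := by rw [hg]; exact this
      exact ⟨⟨g.1, (hfix3 _).2 ⟨g.2, congrArg Subtype.val hgp⟩⟩, Subtype.ext (Subtype.ext hg)⟩
  obtain ⟨u⟩ := LocalEvenB.McLUnitary.stab_iso K hK
  have horb : ∀ k : ℤ, ∀ n : ℕ, (DS [(fiveElt, (24 : ℤ)), (pairElt, 16), (mclPt, k)]).ncard = n →
      Trans [fiveElt, pairElt, mclPt] (DS [(fiveElt, (24 : ℤ)), (pairElt, 16), (mclPt, k)]) →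
      (DS [(fiveElt, (24 : ℤ)), (pairElt, 16), (mclPt, k)]).Nonempty →
      ∃ b : Pts275, (orbit ↥(stabilizer ↥ρ.range p₀) b).ncard = n := by
    intro k n h1 h2 ⟨x, hx⟩
    have hsub : ∀ y ∈ DS [(fiveElt, (24 : ℤ)), (pairElt, 16), (mclPt, k)],
        y ∈ DS [(fiveElt, (24 : ℤ)), (pairElt, 16)] := fun y hy =>
      ⟨hy.1, fun p hp => hy.2 p (by simp only [List.mem_cons, List.not_mem_nil, or_false] at hp ⊢; tauto)⟩
    refine ⟨⟨x, hsub x hx⟩, ?_⟩
    rw [← h1, ← Set.ncard_image_of_injective (f := fun z : Pts275 => z.1) _ fun _ _ h => Subtype.ext h]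
    congr 1
    ext y
    constructor
    · rintro ⟨z, ⟨s, rfl⟩, rfl⟩
      obtain ⟨g, rfl⟩ := hf0.2 s
      refine smul_mem_DS (g := (g : ↥Co0)) (fun p hp => ?_) hx
      have hg := mem_fixGroup.1 ((hfix3 _).1 g.2).1
      simp only [List.mem_cons, List.not_mem_nil, or_false] at hp
      rcases hp with rfl | rfl | rfl
      exacts [hg _ (by simp), hg _ (by simp), ((hfix3 _).1 g.2).2]
    · intro hy
      obtain ⟨g, hg, hgf⟩ := h2 _ hx _ hy
      have hgs : g ∈ LocalEvenB.McLUnitary.stab := (hfix3 _).2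
        ⟨mem_fixGroup.2 fun v hv => hgf v (by simp only [List.mem_cons, List.not_mem_nil, or_false] at hv ⊢; tauto),
          hgf _ (by simp)⟩
      refine ⟨⟨y, hsub y hy⟩, ⟨f0 ⟨g, hgs⟩, Subtype.ext hg⟩, rfl⟩
  obtain ⟨b, hb⟩ := horb 8 112 mcl_sub8.1 mcl_sub8.2.1 mcl_sub8.2.2
  obtain ⟨c, hc⟩ := horb 16 162 mcl_sub16.1 mcl_sub16.2.1 mcl_sub16.2.2
  obtain ⟨H, hH, ⟨v⟩⟩ := exists_modelGroup ρ.range (by rw [← Nat.card_eq_fintype_card, hcard]) p₀ hK
    ((MulEquiv.ofBijective f0 hf0).symm.trans u) b c hb hc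
  exact ⟨H, hH, ⟨CfsgLib.Sporadic.MclOut.equivMcL.trans ((MonoidHom.ofInjective hinj).trans v)⟩⟩

end Lattice

/-- A transitive group on 275 points with point stabiliser U₄(3) and suborbits 112, 162 is McL. -/
theorem recognise {Ω : Type*} [Fintype Ω] [DecidableEq Ω] (hΩ : Fintype.card Ω = 275)
    (G : Subgroup (Equiv.Perm Ω)) [IsPretransitive ↥G Ω] (a : Ω) (K : Type) [Field K] [Fintype K]
    (hK : Fintype.card K = 9) (e : ↥(stabilizer ↥G a) ≃* Cfsg.PSU 4 K 3) (b c : Ω)
    (hb : (orbit ↥(stabilizer ↥G a) b).ncard = 112) (hc : (orbit ↥(stabilizer ↥G a) c).ncard = 162) :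
    Cfsg.Spor.IsoMcL ↥G := by
  obtain ⟨H₁, h₁, ⟨f⟩⟩ := exists_modelGroup G hΩ a hK e b c hb hc
  obtain ⟨H₂, h₂, ⟨g⟩⟩ := mcl_modelGroup hK
  obtain rfl := eq_of_isModelGroup (card_lineGroup_perm hK).1 h₁ h₂
  exact ⟨f.trans g.symm⟩

end CfsgLib.Recog.McLRankThree
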